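import Cfsg.Agent.Lib.Local.FS.OrderFifth.Transfer
import Cfsg.Agent.Lib.Local.FS.TowerTop

/-!
An elementary abelian essential subgroup of order `p³` in a saturated system on a group of order
`p⁵` without abelian maximal subgroups forces a proper focal subgroup.
-/

set_option autoImplicit false

open scoped commutatorElement

namespace Cfsg.Agent.Local.FS.Fifth

open Cfsg Cfsg.FusionSystem Cfsg.Agent.Fusion Tower

variable {Ω : Type*} [Group Ω] {S : Subgroup Ω} {p : ℕ} [hp : Fact p.Prime]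

/-- The elements of `A` are a power of `a` times an element of the kernel. -/
theorem dec {A B : Subgroup Ω} {χ : Ω → ZMod p}
    (hχ : ∀ x ∈ A, ∀ y ∈ A, χ (x * y) = χ x + χ y) (hχ0 : ∀ x ∈ A, χ x = 0 ↔ x ∈ B) {a : Ω} (ha : a ∈ A)
    (hχa : χ a = 1) : ∀ x ∈ A, x * (a ^ (χ x).val)⁻¹ ∈ B := fun x hx =>
  (hχ0 _ (A.mul_mem hx (A.inv_mem (A.pow_mem ha _)))).1 (by
    rw [char_sub hχ hx (A.pow_mem ha _), char_pow hχ ha, hχa, ZMod.natCast_zmod_val, mul_one, sub_self])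

/-- An additive function vanishing on the kernel is a multiple of the character. -/
theorem lin {A B : Subgroup Ω} {χ Ψ : Ω → ZMod p}
    (hχ : ∀ x ∈ A, ∀ y ∈ A, χ (x * y) = χ x + χ y) (hχ0 : ∀ x ∈ A, χ x = 0 ↔ x ∈ B) {a : Ω} (ha : a ∈ A)
    (hχa : χ a = 1) (hΨ : ∀ x ∈ A, ∀ y ∈ A, Ψ (x * y) = Ψ x + Ψ y) (hΨ0 : ∀ x ∈ B, x ∈ A → Ψ x = 0) :
    ∀ x ∈ A, Ψ x = χ x * Ψ a := by
  intro x hx
  have h := hΨ0 _ (dec hχ hχ0 ha hχa x hx) (A.mul_mem hx (A.inv_mem (A.pow_mem ha _)))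
  rwa [char_sub hΨ hx (A.pow_mem ha _), char_pow hΨ ha, ZMod.natCast_zmod_val, sub_eq_zero] at h

theorem char_comm_left {A : Subgroup Ω} {χ : Ω → ZMod p} (hχ : ∀ x ∈ A, ∀ y ∈ A, χ (x * y) = χ x + χ y)
    {a b x : Ω} (h1 : ⁅a, x⁆ ∈ A) (h2 : ⁅b, x⁆ ∈ A) (hi : ∀ y ∈ A, a * y * a⁻¹ ∈ A ∧ χ (a * y * a⁻¹) = χ y) :
    χ ⁅a * b, x⁆ = χ ⁅a, x⁆ + χ ⁅b, x⁆ := by
  rw [commutator_conj_left, hχ _ (hi _ h2).1 _ h1, (hi _ h2).2, add_comm]

theorem char_comm_right {A : Subgroup Ω} {χ : Ω → ZMod p} (hχ : ∀ x ∈ A, ∀ y ∈ A, χ (x * y) = χ x + χ y)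
    {a b x : Ω} (h1 : ⁅x, a⁆ ∈ A) (h2 : ⁅x, b⁆ ∈ A) (hi : ∀ y ∈ A, a * y * a⁻¹ ∈ A ∧ χ (a * y * a⁻¹) = χ y) :
    χ ⁅x, a * b⁆ = χ ⁅x, a⁆ + χ ⁅x, b⁆ := by
  rw [commutator_conj_right, hχ _ h1 _ (hi _ h2).1, (hi _ h2).2]

omit hp in
theorem zmod_three_ne : ∀ x : ZMod 3, x ≠ 0 → x ≠ 1 → x = 2 := by decide

omit hp in
theorem zmod_three_mul_two : ∀ x : ZMod 3, x * 2 = 1 → x = 2 := by decide

omit hp in
theorem zmod_three_sq : ∀ x : ZMod 3, x ≠ 0 → x * x = 1 := by decide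

omit hp in
theorem zmod_three_two_cube : (2 : ZMod 3) ^ 3 = 2 := by decide

omit hp in
theorem zmod_three_two_ne : ¬ (1 : ZMod 3) + 1 = 0 := by decide

omit hp in
theorem mult_zmod_three_cube : ∀ u : Multiplicative (ZMod 3), u ^ 3 = 1 := by decide

variable [Finite S] {F : FusionSystem S}

omit hp in
theorem map_commutator_elt {P : Subgroup Ω} {f : Ω → Ω} (hf : Map F P f) {a b : Ω} (ha : a ∈ P) (hb : b ∈ P) :
    f ⁅a, b⁆ = ⁅f a, f b⁆ := by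
  rw [commutatorElement_def, commutatorElement_def,
    hf.map_mul (P.mul_mem (P.mul_mem ha hb) (P.inv_mem ha)) (P.inv_mem hb),
    hf.map_mul (P.mul_mem ha hb) (P.inv_mem ha), hf.map_mul ha hb, hf.map_inv ha, hf.map_inv hb]

/-- No elementary abelian essential subgroup of order `p³` when the focal subgroup is everything and
there is no abelian maximal subgroup. -/
theorem no_cube (hS : IsPGroup p S) (hF : F.IsSaturated p) (hp2 : p ≠ 2) (hcard : Nat.card S = p ^ 5)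
    (hfoc : F.focalSubgroup = S)
    (hNA : ∀ A : Subgroup Ω, A ≤ S → Nat.card A = p ^ 4 → ¬ ∀ a ∈ A, ∀ b ∈ A, a * b = b * a)
    {E : Subgroup Ω} (hE : F.IsEssential p E) (hEel : IsElementaryAbelian p E) (hEc : Nat.card E = p ^ 3) :
    False := by
  classical
  obtain ⟨Z₀, e, c, l, L, M, t, hb, ht, hNf, hweak⟩ := exists_base hS hF hE hEel hEc hcard.ge
  obtain ⟨t₁, hl₁, hcc⟩ := exists_lvl_one hb ht hNf hcard.ge hweak
  obtain ⟨N, hNd⟩ : ∃ N, N = normalizerIn S E := ⟨_, rfl⟩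
  rw [← hNd] at hl₁ hcc
  have hNS : N ≤ S := hNd ▸ inf_le_left
  have hNc : Nat.card N = p ^ 4 := hl₁.cardP
  have hNlt : N < S := lt_of_le_of_ne hNS fun h => by
    rw [← h, hNc] at hcard
    exact absurd (Nat.pow_right_injective hp.out.two_le hcard) (by omega)
  obtain ⟨f, hu⟩ := hl₁.up hb hNd.ge hNlt
  have hNS' : normalizerIn S N = S := eq_of_card le_rfl inf_le_left (by rw [hcard, hu.cardP'])
  rw [hNS'] at hu
  obtain ⟨W, hWd⟩ : ∃ W, W = der Z₀ S := ⟨_, rfl⟩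
  have hWc : Nat.card W = p ^ 3 := hWd ▸ hu.cardD
  have hWN : W ≤ N := hWd ▸ hu.D_le
  have hWS : W ≤ S := hWN.trans hNS
  have heW : e ∉ W := hWd ▸ hu.e_not
  have hCpow : ∀ y ∈ Subgroup.zpowers c, ∃ i : ℕ, c ^ i = y := fun y hy =>
    (orderOf_pos_iff.1 (hb.c_ord ▸ hp.out.pos)).mem_powers_iff_mem_zpowers.2 hy
  have hSW : ∀ a ∈ S, ∀ b ∈ S, ⁅a, b⁆ ∈ W := fun a ha b hb' =>
    hWd ▸ Subgroup.mem_sup_left (Subgroup.commutator_mem_commutator ha hb')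
  have hZW : Z₀ ≤ W := hWd ▸ le_sup_right
  have hWn : ∀ s ∈ S, ∀ x ∈ W, s * x * s⁻¹ ∈ W := fun s hs =>
    normalizes_of_comm fun x hx => hSW s hs x (hWS hx)
  have hEN : E ≤ N := hNd ▸ le_normalizerIn hb.leS
  have heN : e ∈ N := hEN hb.e_mem
  have hES : E ≤ S := hb.leS
  have heS : e ∈ S := hES hb.e_mem
  have hNn : ∀ s ∈ S, ∀ x ∈ N, s * x * s⁻¹ ∈ N := fun s hs x hx =>
    conj_mem_of_normalizer (hNS'.ge hs).2 hx
  have hcN : ∀ x ∈ N, ∀ z ∈ Z₀, x * z = z * x := hl₁.cent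
  have hZS : Z₀ ≤ S := hb.leZ.trans hES
  have hZn : ∀ s ∈ S, ∀ x ∈ Z₀, s * x * s⁻¹ ∈ Z₀ := fun s hs =>
    hb.map_Z hNd.ge hcN (map_conjBy hNS hs) (hNn s hs)
  obtain ⟨C, hC⟩ : ∃ C, C = Subgroup.zpowers c := ⟨_, rfl⟩
  have hcC : c ∈ C := hC ▸ Subgroup.mem_zpowers c
  have hCZ : C ≤ Z₀ := hC ▸ Subgroup.zpowers_le.2 hb.c_mem
  have hCS : C ≤ S := hCZ.trans hZS
  have hcardC : Nat.card C = p := by rw [hC, Nat.card_zpowers, hb.c_ord]
  have hNE : ∀ x ∈ N, ∀ a ∈ E, ⁅x, a⁆ ∈ C := fun x hx a ha => hC ▸ hb.commN x (hNd ▸ hx) a ha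
  -- `h` and `g`
  obtain ⟨h, hh, hhN⟩ := SetLike.exists_of_lt hNlt
  obtain ⟨g, hgd⟩ : ∃ g, g = ⁅h, e⁆ := ⟨_, rfl⟩
  have hgW : g ∈ W := hgd ▸ hSW h hh e heS
  have hgN : g ∈ N := hWN hgW
  have hgS : g ∈ S := hWS hgW
  have hchain : ∀ x ∈ S, x ∉ N → ⁅⁅x, e⁆, e⁆ ∈ C ∧ ⁅⁅x, e⁆, e⁆ ≠ 1 := fun x hx hxN => hC ▸ hu.chain x hx hxN
  have hge : ⁅g, e⁆ ≠ 1 := hgd ▸ (hchain h hh hhN).2
  have hgZ : g ∉ Z₀ := fun hg => hge (commutatorElement_eq_one_iff_mul_comm.2 (hcN e heN g hg).symm)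
  have nrm : ∀ X : Subgroup Ω, X ≤ S → (∀ s ∈ S, ∀ x ∈ X, s * x * s⁻¹ ∈ X) →
      S ≤ Subgroup.normalizer (X : Set Ω) := fun X hX hn s hs => mem_normalizer_of_conj_mem hX (hn s hs)
  obtain ⟨χg, hχg, hχg0, hχgg⟩ := exists_char hS hWS hZW (hWS.trans (nrm Z₀ hZS hZn))
    (by rw [hWc, hb.cardZ, ← pow_succ]) hgW hgZ
  obtain ⟨χS, hχS, hχS0, hχSh⟩ := exists_char hS le_rfl hNS (nrm N hNS hNn)
    (by rw [hcard, hNc, ← pow_succ]) hh hhN
  obtain ⟨χe, hχe, hχe0, hχee⟩ := exists_char hS hNS hWN (hNS.trans (nrm W hWS hWn))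
    (by rw [hNc, hWc, ← pow_succ]) heN heW
  have hWdec := dec hχg hχg0 hgW hχgg
  have hWab : ∀ a ∈ W, ∀ b ∈ W, a * b = b * a := by
    have h1 : ∀ a ∈ W, Commute a g := fun a ha => by
      have h2 : Commute (a * (g ^ (χg a).val)⁻¹) g := (hcN g hgN _ (hWdec a ha)).symm
      simpa using h2.mul_left ((Commute.refl g).pow_left (χg a).val)
    intro a ha b hb'
    have h2 : Commute a (b * (g ^ (χg b).val)⁻¹) := hcN a (hWN ha) _ (hWdec b hb')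
    have h3 : Commute a (b * (g ^ (χg b).val)⁻¹ * g ^ (χg b).val) := h2.mul_right ((h1 a ha).pow_right _)
    rwa [inv_mul_cancel_right] at h3
  have hSZW : ∀ s ∈ S, ∀ x ∈ W, ⁅s, x⁆ ∈ Z₀ := fun s hs =>
    conj_fix hS hWS hZW (hWS.trans (nrm Z₀ hZS hZn)) (by rw [hWc, hb.cardZ, ← pow_succ]) hs
      (nrm W hWS hWn hs) (nrm Z₀ hZS hZn hs)
  -- `c` is central in `S`
  have hCcen : ∀ s ∈ S, ∀ y ∈ C, s * y = y * s := by
    intro s hs
    obtain ⟨d, hd⟩ : ∃ d, d = ⁅g, e⁆ := ⟨_, rfl⟩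
    have hdC : d ∈ C := hd ▸ hgd ▸ (hchain h hh hhN).1
    have hfixd : s * d * s⁻¹ = d := by
      obtain ⟨z, hz⟩ : ∃ z, z = ⁅s, g⁆ := ⟨_, rfl⟩
      obtain ⟨w, hw⟩ : ∃ w, w = ⁅s, e⁆ := ⟨_, rfl⟩
      have hzZ : z ∈ Z₀ := hz ▸ hSZW s hs g hgW
      have hwW : w ∈ W := hw ▸ hSW s hs e heS
      have e1 : s * d * s⁻¹ = ⁅z * g, w * e⁆ := by
        rw [hd, hz, hw]; simp only [commutatorElement_def]; group
      have e2 : ⁅z, w * e⁆ = 1 :=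
        commutatorElement_eq_one_iff_mul_comm.2 (hcN _ (N.mul_mem (hWN hwW) heN) z hzZ).symm
      have e3 : ⁅g, w⁆ = 1 := commutatorElement_eq_one_iff_mul_comm.2 (hWab g hgW w hwW)
      have e4 : ∀ y ∈ C, ∀ n ∈ N, n * y * n⁻¹ = y := fun y hy n hn => by
        rw [hcN n hn y (hCZ hy), mul_inv_cancel_right]
      rw [e1, commutator_conj_left, commutator_conj_right g w e, e2, e3, one_mul, mul_one, ← hd,
        e4 d hdC w (hWN hwW), e4 d hdC z (hWN (hZW hzZ))]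
    intro y hy
    have hlt : (⊥ : Subgroup Ω) < Subgroup.zpowers d :=
      bot_lt_iff_ne_bot.2 fun h' => hge (hd ▸ Subgroup.zpowers_eq_bot.1 h')
    have h1 := step_le hS ((Subgroup.zpowers_le.2 hdC).trans hCS) hlt
    rw [Subgroup.card_bot, one_mul] at h1
    have heq : Subgroup.zpowers d = C := eq_of_card hCS (Subgroup.zpowers_le.2 hdC) (by rw [hcardC]; exact h1)
    have hle : C ≤ Subgroup.centralizer ({s} : Set Ω) := heq ▸ Subgroup.zpowers_le.2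
      (Subgroup.mem_centralizer_singleton_iff.2 (by rw [mul_inv_eq_iff_eq_mul] at hfixd; exact hfixd.symm))
    exact (Subgroup.mem_centralizer_singleton_iff.1 (hle hy)).symm
  have hCn : ∀ s ∈ S, ∀ x ∈ C, s * x * s⁻¹ ∈ C := fun s hs x hx => by
    rw [hCcen s hs x hx, mul_inv_cancel_right]; exact hx
  have hSZC : ∀ s ∈ S, ∀ x ∈ Z₀, ⁅s, x⁆ ∈ C := fun s hs =>
    conj_fix hS hZS hCZ (hZS.trans (nrm C hCS hCn)) (by rw [hcardC, hb.cardZ, sq]) hs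
      (nrm Z₀ hZS hZn hs) (nrm C hCS hCn hs)
  -- characters of `Z₀`
  have hlo : orderOf l = p :=
    orderOf_eq_prime (hb.exp l (hb.leZ hb.l_mem)) fun h' => hb.l_not (h' ▸ Subgroup.one_mem _)
  have hlZ : Subgroup.zpowers l ≤ Z₀ := Subgroup.zpowers_le.2 hb.l_mem
  have hcnl : c ∉ Subgroup.zpowers l := fun h' => hb.l_not (by
    have heq : Subgroup.zpowers c = Subgroup.zpowers l := eq_of_card (hlZ.trans hZS) (Subgroup.zpowers_le.2 h')
      (by rw [Nat.card_zpowers, Nat.card_zpowers, hlo, hb.c_ord])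
    exact heq ▸ Subgroup.mem_zpowers l)
  have hsubn : ∀ H : Subgroup Ω, H ≤ Z₀ → Z₀ ≤ Subgroup.normalizer (H : Set Ω) := fun H hH x hx =>
    mem_normalizer_of_conj_mem (hH.trans hZS) fun y hy => by
      rw [hb.comm x (hb.leZ hx) y (hb.leZ (hH hy)), mul_inv_cancel_right]; exact hy
  obtain ⟨χl, hχl, hχl0, hχll⟩ := exists_char hS hZS hCZ (hsubn C hCZ)
    (by rw [hb.cardZ, hcardC, sq]) hb.l_mem (hC ▸ hb.l_not)
  obtain ⟨χc, hχc, hχc0, hχcc⟩ := exists_char hS hZS hlZ (hsubn _ hlZ)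
    (by rw [hb.cardZ, Nat.card_zpowers, hlo, sq]) hb.c_mem hcnl
  have hχcinj : ∀ y ∈ C, χc y = 0 → y = 1 := by
    intro y hy h0
    by_contra hy1
    have hyo : orderOf y = p := orderOf_eq_prime (hb.exp y (hb.leZ (hCZ hy))) hy1
    have heq : Subgroup.zpowers y = C := eq_of_card hCS (Subgroup.zpowers_le.2 hy)
      (by rw [Nat.card_zpowers, hyo, hcardC])
    exact hcnl ((heq ▸ Subgroup.zpowers_le.2 ((hχc0 y (hCZ hy)).1 h0) : C ≤ Subgroup.zpowers l) hcC)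
  have hlS : l ∈ S := hZS hb.l_mem
  have hlW : l ∈ W := hZW hb.l_mem
  have hcS : c ∈ S := hZS hb.c_mem
  -- conjugation invariance
  have invg : ∀ s ∈ S, ∀ y ∈ W, s * y * s⁻¹ ∈ W ∧ χg (s * y * s⁻¹) = χg y := fun s hs y hy => by
    refine ⟨hWn s hs y hy, ?_⟩
    rw [show s * y * s⁻¹ = ⁅s, y⁆ * y by rw [commutatorElement_def]; group,
      hχg _ (hZW (hSZW s hs y hy)) y hy, (hχg0 _ (hZW (hSZW s hs y hy))).2 (hSZW s hs y hy), zero_add]
  have invl : ∀ s ∈ S, ∀ y ∈ Z₀, s * y * s⁻¹ ∈ Z₀ ∧ χl (s * y * s⁻¹) = χl y := fun s hs y hy => by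
    refine ⟨hZn s hs y hy, ?_⟩
    rw [show s * y * s⁻¹ = ⁅s, y⁆ * y by rw [commutatorElement_def]; group,
      hχl _ (hCZ (hSZC s hs y hy)) y hy, (hχl0 _ (hCZ (hSZC s hs y hy))).2 (hSZC s hs y hy), zero_add]
  have hχcC : ∀ x ∈ C, ∀ y ∈ C, χc (x * y) = χc x + χc y := fun x hx y hy => hχc x (hCZ hx) y (hCZ hy)
  have invc : ∀ s ∈ S, ∀ y ∈ C, s * y * s⁻¹ ∈ C ∧ χc (s * y * s⁻¹) = χc y := fun s hs y hy => by
    rw [hCcen s hs y hy, mul_inv_cancel_right]; exact ⟨hy, rfl⟩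
  -- the automorphism `f`
  have hfS : Map F S f := hu.tor.map
  have hfM : ∀ x ∈ S, f x ∈ S := hu.tor.mem
  -- `δ`
  obtain ⟨δ, hδ⟩ : ∃ δ : Ω → ZMod p, ∀ s, δ s = χg ⁅s, e⁆ := ⟨_, fun _ => rfl⟩
  have hδadd : ∀ a ∈ S, ∀ b ∈ S, δ (a * b) = δ a + δ b := fun a ha b hb' => by
    simp only [hδ]; exact char_comm_left hχg (hSW a ha e heS) (hSW b hb' e heS) (invg a ha)
  have hδ0 : ∀ x ∈ N, x ∈ S → δ x = 0 := fun x hx _ => by
    have h1 := hNE x hx e hb.e_mem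
    rw [hδ]; exact (hχg0 _ (hZW (hCZ h1))).2 (hCZ h1)
  have hδS : ∀ s ∈ S, δ s = χS s := fun s hs => by
    rw [lin hχS hχS0 hh hχSh hδadd hδ0 s hs, hδ, ← hgd, hχgg, mul_one]
  have hweight : ∀ s ∈ S, χS (f s) = M ^ 3 * χS s := fun s hs => by
    have h1 := (hχS0 _ (S.mul_mem (hfM s hs) (S.inv_mem (S.pow_mem hs _)))).2 (hu.weight s hs)
    rwa [char_sub hχS (hfM s hs) (S.pow_mem hs _), char_pow hχS hs, ZMod.natCast_zmod_val, sub_eq_zero] at h1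
  have hepow : ∀ m : ℕ, ∀ s ∈ S, χg ⁅s, e ^ m⁆ = m * δ s := by
    intro m
    induction m with
    | zero => intro s _; rw [pow_zero, commutatorElement_one_right, char_one hχg, Nat.cast_zero, zero_mul]
    | succ m ih =>
      intro s hs
      rw [pow_succ, char_comm_right hχg (hSW s hs _ (S.pow_mem heS m)) (hSW s hs e heS)
        (invg _ (S.pow_mem heS m)), ih s hs, ← hδ, Nat.cast_succ, add_mul, one_mul]
  have hfgW : f g ∈ W := by
    rw [hgd, map_commutator_elt hfS hh heS]; exact hSW _ (hfM h hh) _ (hfM e heS)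
  have hfg : χg (f g) = M ^ 2 := by
    rw [hgd, map_commutator_elt hfS hh heS, hu.tor.te, hepow _ _ (hfM h hh), hδS _ (hfM h hh), hweight h hh, hχSh,
      ZMod.natCast_zmod_val]
    linear_combination (M ^ 2) * hb.LM
  -- `[S, g] ≤ C`
  obtain ⟨β, hβ⟩ : ∃ β : Ω → ZMod p, ∀ s, β s = χl ⁅s, g⁆ := ⟨_, fun _ => rfl⟩
  have hβadd : ∀ a ∈ S, ∀ b ∈ S, β (a * b) = β a + β b := fun a ha b hb' => by
    simp only [hβ]; exact char_comm_left hχl (hSZW a ha g hgW) (hSZW b hb' g hgW) (invl a ha)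
  have hβe : β e = 0 := by
    have h1 := hNE g hgN e hb.e_mem
    rw [hβ, ← commutatorElement_inv, char_inv hχl (hCZ h1), (hχl0 _ (hCZ h1)).2 h1, neg_zero]
  have hβN : ∀ x ∈ N, β x = 0 := fun x hx => by
    rw [lin hχe hχe0 heN hχee (fun a ha b hb' => hβadd a (hNS ha) b (hNS hb')) (fun y hy _ => by
      rw [hβ, commutatorElement_eq_one_iff_mul_comm.2 (hWab y hy g hgW)]; exact char_one hχl) x hx, hβe, mul_zero]
  have hβS : ∀ s ∈ S, β s = χS s * β h := lin hχS hχS0 hh hχSh hβadd fun x hx _ => hβN x hx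
  have hβW : ∀ s ∈ S, ∀ w ∈ W, χl ⁅s, w⁆ = χg w * β s := fun s hs w hw => by
    rw [lin (Ψ := fun w => χl ⁅s, w⁆) hχg hχg0 hgW hχgg
      (fun a ha b hb' => char_comm_right hχl (hSZW s hs a ha) (hSZW s hs b hb') (invl a (hWS ha)))
      (fun y hy _ => (hχl0 _ (hCZ (hSZC s hs y hy))).2 (hSZC s hs y hy)) w hw, hβ]
  have hfc : f c ∈ C := by rw [hu.tor.tc]; exact C.pow_mem hcC _
  have hfC : ∀ y ∈ C, f y ∈ C := fun y hy => by
    obtain ⟨i, rfl⟩ := hCpow y (hC ▸ hy)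
    show f (c ^ i) ∈ C
    rw [map_pow hfS hcS]; exact C.pow_mem hfc _
  have hfl : f l = l := hu.tor.tl
  have hfZ : ∀ z ∈ Z₀, f z ∈ Z₀ ∧ χl (f z) = χl z := by
    intro z hz
    have h1 : z * (l ^ (χl z).val)⁻¹ ∈ C := dec hχl hχl0 hb.l_mem hχll z hz
    have h2 : z = z * (l ^ (χl z).val)⁻¹ * l ^ (χl z).val := by group
    have h3 : f z = f (z * (l ^ (χl z).val)⁻¹) * l ^ (χl z).val := by
      conv_lhs => rw [h2]
      rw [hfS.map_mul (hCS h1) (S.pow_mem hlS _), map_pow hfS hlS, hfl]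
    refine ⟨h3 ▸ Z₀.mul_mem (hCZ (hfC _ h1)) (Z₀.pow_mem hb.l_mem _), ?_⟩
    rw [h3, hχl _ (hCZ (hfC _ h1)) _ (Z₀.pow_mem hb.l_mem _), (hχl0 _ (hCZ (hfC _ h1))).2 (hfC _ h1),
      char_pow hχl hb.l_mem, hχll, ZMod.natCast_zmod_val, mul_one, zero_add]
  have hβh : β h = 0 := by
    by_contra h0
    have h1 := (hfZ _ (hSZW h hh g hgW)).2
    rw [map_commutator_elt hfS hh hgS, hβW _ (hfM h hh) _ hfgW, hfg, hβS _ (hfM h hh), hweight h hh, hχSh,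
      ← hβ] at h1
    have h2 : M ^ 5 = 1 := mul_right_cancel₀ h0 (by linear_combination h1)
    have h3 : p - 1 ≤ 5 := Nat.le_of_dvd (by norm_num) (hb.ord 5 h2)
    have h4 := hb.ord 5 h2
    have h5 : p ≤ 6 := by omega
    have h6 := hp.out
    interval_cases p <;> revert h4 h6 hp2 <;> decide
  have hSWC : ∀ s ∈ S, ∀ w ∈ W, ⁅s, w⁆ ∈ C := fun s hs w hw => by
    refine (hχl0 _ (hSZW s hs w hw)).1 ?_
    rw [hβW s hs w hw, hβS s hs, hβh, mul_zero, mul_zero]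
  -- some element moves `l`
  have hcomC : ∀ a b : Ω, ⁅a, b⁆ ∈ C → χc ⁅a, b⁆ = 0 → a * b = b * a := fun a b h1 h2 =>
    commutatorElement_eq_one_iff_mul_comm.1 (hχcinj _ h1 h2)
  have hcomC' : ∀ a b : Ω, a * b = b * a → χc ⁅a, b⁆ = 0 := fun a b h1 => by
    rw [commutatorElement_eq_one_iff_mul_comm.2 h1]; exact char_one hχc
  obtain ⟨A, hA⟩ : ∃ A : Ω → ZMod p, ∀ s, A s = χc ⁅g, s⁆ := ⟨_, fun _ => rfl⟩
  have hgSC : ∀ s ∈ S, ⁅g, s⁆ ∈ C := fun s hs => by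
    rw [← commutatorElement_inv]; exact C.inv_mem (hSWC s hs g hgW)
  have hAadd : ∀ a ∈ S, ∀ b ∈ S, A (a * b) = A a + A b := fun a ha b hb' => by
    simp only [hA]; exact char_comm_right hχcC (hgSC a ha) (hgSC b hb') (invc a ha)
  have hA0 : ∀ s ∈ S, A s = 0 ↔ g * s = s * g := fun s hs => by
    rw [hA]; exact ⟨hcomC g s (hgSC s hs), hcomC' g s⟩
  have hAe : A e ≠ 0 := fun h0 =>
    hge (commutatorElement_eq_one_iff_mul_comm.2 ((hA0 e heS).1 h0))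
  obtain ⟨K, hK⟩ : ∃ K : Subgroup Ω, ∀ x, x ∈ K ↔ x ∈ S ∧ A x = 0 :=
    ⟨{ carrier := {x | x ∈ S ∧ A x = 0}
       one_mem' := ⟨S.one_mem, char_one hAadd⟩
       mul_mem' := fun {a b} ha hb => ⟨S.mul_mem ha.1 hb.1, by rw [hAadd a ha.1 b hb.1, ha.2, hb.2, add_zero]⟩
       inv_mem' := fun {a} ha => ⟨S.inv_mem ha.1, by rw [char_inv hAadd ha.1, ha.2, neg_zero]⟩ },
      fun _ => Iff.rfl⟩
  have hKS : K ≤ S := fun x hx => ((hK x).1 hx).1
  have hKg : ∀ x ∈ K, g * x = x * g := fun x hx => (hA0 x (hKS hx)).1 ((hK x).1 hx).2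
  have hWK : W ≤ K := fun x hx => (hK x).2 ⟨hWS hx, (hA0 x (hWS hx)).2 (hWab g hgW x hx)⟩
  -- an element of `K` outside `N`
  obtain ⟨k₀, hk₀d⟩ : ∃ k, k = h * (e ^ (A h * (A e)⁻¹).val)⁻¹ := ⟨_, rfl⟩
  have hk₀S : k₀ ∈ S := hk₀d ▸ S.mul_mem hh (S.inv_mem (S.pow_mem heS _))
  have hk₀K : k₀ ∈ K := (hK _).2 ⟨hk₀S, by
    rw [hk₀d, char_sub hAadd hh (S.pow_mem heS _), char_pow hAadd heS, ZMod.natCast_zmod_val,
      inv_mul_cancel_right₀ hAe, sub_self]⟩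
  have hk₀χ : χS k₀ = 1 := by
    rw [hk₀d, char_sub hχS hh (S.pow_mem heS _), char_pow hχS heS, (hχS0 e heS).2 heN, mul_zero, sub_zero, hχSh]
  have hKN : ∀ x ∈ K, χS x = 0 → x ∈ W := fun x hx h0 => by
    have hxN : x ∈ N := (hχS0 x (hKS hx)).1 h0
    refine (hχe0 x hxN).1 ?_
    have h1 := lin hχe hχe0 heN hχee (fun a ha b hb' => hAadd a (hNS ha) b (hNS hb'))
      (fun y hy _ => ((hK y).1 (hWK hy)).2) x hxN
    rw [((hK x).1 hx).2] at h1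
    exact (mul_eq_zero.1 h1.symm).resolve_right hAe
  have hKdec : ∀ x ∈ K, x * (k₀ ^ (χS x).val)⁻¹ ∈ W := fun x hx =>
    hKN _ (K.mul_mem hx (K.inv_mem (K.pow_mem hk₀K _))) (by
      rw [char_sub hχS (hKS hx) (S.pow_mem hk₀S _), char_pow hχS hk₀S, hk₀χ, ZMod.natCast_zmod_val, mul_one,
        sub_self])
  have hKc : Nat.card K = p ^ 4 := by
    refine le_antisymm ?_ ?_
    · have h1 := step_le hS le_rfl (lt_of_le_of_ne hKS fun h' => hAe ((hK e).1 (h'.ge heS)).2)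
      rw [hcard, show 5 = 4 + 1 from rfl, pow_succ p 4] at h1
      exact Nat.le_of_mul_le_mul_right h1 hp.out.pos
    · have h1 := step_le hS hKS (lt_of_le_of_ne hWK fun h' => by
        have := (hχS0 k₀ hk₀S).2 (hWN (h'.ge hk₀K))
        rw [hk₀χ] at this
        exact one_ne_zero this)
      rwa [hWc, ← pow_succ] at h1
  obtain ⟨γl, hγl⟩ : ∃ γl : Ω → ZMod p, ∀ s, γl s = χc ⁅s, l⁆ := ⟨_, fun _ => rfl⟩
  have hγadd : ∀ a ∈ S, ∀ b ∈ S, γl (a * b) = γl a + γl b := fun a ha b hb' => by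
    simp only [hγl]
    exact char_comm_left hχcC (hSZC a ha l hb.l_mem) (hSZC b hb' l hb.l_mem) (invc a ha)
  have hγN : ∀ x ∈ N, γl x = 0 := fun x hx => by rw [hγl]; exact hcomC' _ _ (hcN x hx l hb.l_mem)
  have hγS : ∀ s ∈ S, γl s = χS s * γl h := lin hχS hχS0 hh hχSh hγadd fun x hx _ => hγN x hx
  have hγh : γl h ≠ 0 := by
    intro h0
    refine hNA K hKS hKc ?_
    have hl0 : ∀ s ∈ S, Commute s l := fun s hs =>
      hcomC s l (hSZC s hs l hb.l_mem) (by rw [← hγl, hγS s hs, h0, mul_zero])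
    have hWk : ∀ k ∈ K, ∀ w ∈ W, Commute k w := by
      intro k hk w hw
      have hz := hWdec w hw
      obtain ⟨z, hzd⟩ : ∃ z, z = w * (g ^ (χg w).val)⁻¹ := ⟨_, rfl⟩
      rw [← hzd] at hz
      have h1 : z * (l ^ (χl z).val)⁻¹ ∈ C := dec hχl hχl0 hb.l_mem hχll z hz
      have h2 : Commute k z := by
        have := (show Commute k _ from hCcen k (hKS hk) _ h1).mul_right ((hl0 k (hKS hk)).pow_right (χl z).val)
        rwa [inv_mul_cancel_right] at this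
      have h3 := h2.mul_right ((show Commute k g from (hKg k hk).symm).pow_right (χg w).val)
      rwa [hzd, inv_mul_cancel_right] at h3
    intro a ha b hb'
    have h1 : Commute a k₀ := by
      have := (hWk k₀ hk₀K _ (hKdec a ha)).symm.mul_left ((Commute.refl k₀).pow_left (χS a).val)
      rwa [inv_mul_cancel_right] at this
    have h2 := (hWk a ha _ (hKdec b hb')).mul_right (h1.pow_right (χS b).val)
    rw [inv_mul_cancel_right] at h2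
    exact h2
  -- `p = 3`
  have hχcf : ∀ y ∈ C, χc (f y) = M * χc y := fun y hy => by
    obtain ⟨i, rfl⟩ := hCpow y (hC ▸ hy)
    show χc (f (c ^ i)) = M * χc (c ^ i)
    rw [map_pow hfS hcS, hu.tor.tc, char_pow hχc (Z₀.pow_mem hb.c_mem _), char_pow hχc hb.c_mem,
      char_pow hχc hb.c_mem, hχcc, ZMod.natCast_zmod_val]
    ring
  have hM0 : M ≠ 0 := fun h0 => zero_ne_one (α := ZMod p) (by simpa [h0] using hb.LM)
  have hM2 : M ^ 2 = 1 := by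
    have h1 := hχcf _ (hSZC h hh l hb.l_mem)
    rw [map_commutator_elt hfS hh hlS, hfl, ← hγl, ← hγl, hγS _ (hfM h hh), hweight h hh, hχSh] at h1
    refine mul_right_cancel₀ hγh (mul_left_cancel₀ hM0 ?_)
    linear_combination h1
  obtain rfl : p = 3 := by
    have h1 : p - 1 ≤ 2 := Nat.le_of_dvd (by norm_num) (hb.ord 2 hM2)
    have h2 := hp.out.two_le
    omega
  have hM2' : M = 2 := by
    have h1 : M ≠ 1 := fun h1 => absurd (hb.ord 1 (by rw [h1, one_pow])) (by norm_num)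
    exact zmod_three_ne M hM0 h1
  have hL2 : L = 2 := by
    have h1 := hb.LM
    rw [hM2'] at h1
    exact zmod_three_mul_two L h1
  -- exponent
  have he3 : e ^ 3 = 1 := hb.exp e hb.e_mem
  have hg3 : g ^ 3 = 1 := by
    obtain ⟨d, hd⟩ : ∃ d, d = ⁅e, g⁆ := ⟨_, rfl⟩
    have hdC : d ∈ C := by
      rw [hd, ← commutatorElement_inv]; exact C.inv_mem (hNE g hgN e hb.e_mem)
    have hd3 : d ^ 3 = 1 := hb.exp d (hb.leZ (hCZ hdC))
    have h1 : (g * e) ^ 3 = 1 := by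
      rw [show g * e = h * e * h⁻¹ by rw [hgd, commutatorElement_def]; group, conj_pow, he3]; simp
    have c1 : ∀ y, g * (d * y) = d * (g * y) := fun y => by
      rw [← mul_assoc, hCcen g hgS d hdC, mul_assoc]
    have c2 : ∀ y, e * (d * y) = d * (e * y) := fun y => by
      rw [← mul_assoc, hCcen e heS d hdC, mul_assoc]
    have c3 : ∀ y, e * (g * y) = d * (g * (e * y)) := fun y => by
      rw [hd, commutatorElement_def]; group
    have h2 : (g * e) ^ 3 = d ^ 3 * g ^ 3 * e ^ 3 := by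
      simp only [pow_succ, pow_zero, one_mul, mul_assoc, c1, c2, c3]
    rw [h2, hd3, he3, one_mul, mul_one] at h1
    exact h1
  have hpow3 : ∀ {x : Ω}, x ^ 3 = 1 → ∀ i j : ZMod 3, x ^ (i + j).val = x ^ i.val * x ^ j.val := by
    intro x hx i j
    rw [ZMod.val_add, ← pow_eq_pow_mod _ hx, pow_add]
  -- the coordinate along `l` on `W`
  obtain ⟨ξ, hξ⟩ : ∃ ξ : Ω → ZMod 3, ∀ x, ξ x = χl (x * (g ^ (χg x).val)⁻¹) := ⟨_, fun _ => rfl⟩
  have hξadd : ∀ a ∈ W, ∀ b ∈ W, ξ (a * b) = ξ a + ξ b := fun a ha b hb' => by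
    rw [hξ, hξ, hξ, ← hχl _ (hWdec a ha) _ (hWdec b hb'), hχg a ha b hb', hpow3 hg3, mul_inv_rev]
    congr 1
    have hu' : (g ^ (χg a).val)⁻¹ ∈ W := W.inv_mem (W.pow_mem hgW _)
    rw [mul_assoc a _ (b * _), hWab _ hu' _ (W.mul_mem hb' (W.inv_mem (W.pow_mem hgW _)))]
    group
  have hξZ : ∀ z ∈ Z₀, ξ z = χl z := fun z hz => by
    rw [hξ, (hχg0 z (hZW hz)).2 hz]; simp
  have hξC : ∀ y ∈ C, ξ y = 0 := fun y hy => by rw [hξZ y (hCZ hy)]; exact (hχl0 y (hCZ hy)).2 hy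
  have hξg : ξ g = 0 := by
    rw [hξ, hχgg, ZMod.val_one, pow_one, mul_inv_cancel]; exact char_one hχl
  have hξl : ξ l = 1 := (hξZ l hb.l_mem).trans hχll
  have invξ : ∀ s ∈ S, ∀ y ∈ W, s * y * s⁻¹ ∈ W ∧ ξ (s * y * s⁻¹) = ξ y := fun s hs y hy => by
    refine ⟨hWn s hs y hy, ?_⟩
    have h1 := hSWC s hs y hy
    rw [show s * y * s⁻¹ = ⁅s, y⁆ * y by rw [commutatorElement_def]; group, hξadd _ (hZW (hCZ h1)) y hy,
      hξC _ h1, zero_add]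
  have hlinW : ∀ Ψ : Ω → ZMod 3, (∀ x ∈ W, ∀ y ∈ W, Ψ (x * y) = Ψ x + Ψ y) → (∀ y ∈ C, Ψ y = 0) →
      ∀ w ∈ W, Ψ w = χg w * Ψ g + ξ w * Ψ l := by
    intro Ψ hΨ hΨ0 w hw
    have h1 : ∀ z ∈ Z₀, Ψ z = χl z * Ψ l := lin hχl hχl0 hb.l_mem hχll
      (fun a ha b hb' => hΨ a (hZW ha) b (hZW hb')) fun y hy _ => hΨ0 y hy
    have h2 := lin (Ψ := fun x => Ψ x - ξ x * Ψ l) hχg hχg0 hgW hχgg
      (fun a ha b hb' => by simp only [hΨ a ha b hb', hξadd a ha b hb']; ring)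
      (fun z hz _ => by simp only [hξZ z hz, h1 z hz, sub_self]) w hw
    simp only [hξg, zero_mul, sub_zero] at h2
    linear_combination h2
  -- the commutators lie in `ker ξ`
  have hξcomm : ∀ a ∈ S, ∀ b ∈ S, ξ ⁅a, b⁆ = 0 := by
    have hswap : ∀ a ∈ S, ∀ b ∈ S, ξ ⁅a, b⁆ = - ξ ⁅b, a⁆ := fun a ha b hb' => by
      rw [← commutatorElement_inv, char_inv hξadd (hSW b hb' a ha)]
    have haddL : ∀ x ∈ S, ∀ a ∈ S, ∀ b ∈ S, ξ ⁅a * b, x⁆ = ξ ⁅a, x⁆ + ξ ⁅b, x⁆ := fun x hx a ha b hb' =>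
      char_comm_left hξadd (hSW a ha x hx) (hSW b hb' x hx) (invξ a ha)
    have haddR : ∀ x ∈ S, ∀ a ∈ S, ∀ b ∈ S, ξ ⁅x, a * b⁆ = ξ ⁅x, a⁆ + ξ ⁅x, b⁆ := fun x hx a ha b hb' =>
      char_comm_right hξadd (hSW x hx a ha) (hSW x hx b hb') (invξ a ha)
    have h1 : ∀ a ∈ S, ξ ⁅a, e⁆ = 0 := fun a ha => by
      rw [lin (Ψ := fun a => ξ ⁅a, e⁆) hχS hχS0 hh hχSh (haddL e heS)
        (fun n hn _ => hξC _ (hNE n hn e hb.e_mem)) a ha, ← hgd, hξg, mul_zero]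
    have h2 : ∀ a ∈ S, ∀ n ∈ N, ξ ⁅a, n⁆ = 0 := fun a ha n hn => by
      rw [lin (Ψ := fun n => ξ ⁅a, n⁆) hχe hχe0 heN hχee
        (fun x hx y hy => haddR a ha x (hNS hx) y (hNS hy))
        (fun w hw _ => hξC _ (hSWC a ha w hw)) n hn, h1 a ha, mul_zero]
    have h3 : ∀ a ∈ S, ξ ⁅a, h⁆ = 0 := fun a ha => by
      rw [lin (Ψ := fun a => ξ ⁅a, h⁆) hχS hχS0 hh hχSh (haddL h hh)
        (fun n hn _ => by rw [hswap n (hNS hn) h hh, h2 h hh n hn, neg_zero]) a ha, commutatorElement_self,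
        char_one hξadd, mul_zero]
    intro a ha b hb'
    rw [lin (Ψ := fun b => ξ ⁅a, b⁆) hχS hχS0 hh hχSh (haddR a ha) (fun n hn _ => h2 a ha n hn) b hb', h3 a ha,
      mul_zero]
  obtain ⟨D, hD⟩ : ∃ D : Subgroup Ω, ∀ x, x ∈ D ↔ x ∈ W ∧ ξ x = 0 :=
    ⟨{ carrier := {x | x ∈ W ∧ ξ x = 0}
       one_mem' := ⟨W.one_mem, char_one hξadd⟩
       mul_mem' := fun {a b} ha hb => ⟨W.mul_mem ha.1 hb.1, by rw [hξadd a ha.1 b hb.1, ha.2, hb.2, add_zero]⟩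
       inv_mem' := fun {a} ha => ⟨W.inv_mem ha.1, by rw [char_inv hξadd ha.1, ha.2, neg_zero]⟩ },
      fun _ => Iff.rfl⟩
  have hSD : ⁅S, S⁆ ≤ D := Subgroup.commutator_le.2 fun a ha b hb' =>
    (hD _).2 ⟨hSW a ha b hb', hξcomm a ha b hb'⟩
  have hDdec : ∀ x ∈ D, x * (g ^ (χg x).val)⁻¹ ∈ C := fun x hx => by
    obtain ⟨hxW, hx0⟩ := (hD x).1 hx
    rw [hξ] at hx0
    exact (hχl0 _ (hWdec x hxW)).1 hx0
  have hDS : D ≤ ⁅S, S⁆ := by
    intro x hx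
    have h1 : C ≤ ⁅S, S⁆ := hC ▸ Subgroup.zpowers_le.2 (Subgroup.commutator_mono hNS hNS hcc)
    have h2 : g ∈ ⁅S, S⁆ := hgd ▸ Subgroup.commutator_mem_commutator hh heS
    have := Subgroup.mul_mem _ (h1 (hDdec x hx)) (Subgroup.pow_mem _ h2 (χg x).val)
    rwa [inv_mul_cancel_right] at this
  have hDΦ : D ≤ (frattini ↥S).map S.subtype := hDS.trans (commutator_le_frattini_map hS)
  -- `l` is not in the Frattini subgroup
  obtain ⟨κ, hκ⟩ : ∃ κ : Ω → ZMod 3, ∀ x, κ x = ξ (x * (e ^ (χe x).val)⁻¹) := ⟨_, fun _ => rfl⟩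
  have hNdec := dec hχe hχe0 heN hχee
  have hκadd : ∀ a ∈ N, ∀ b ∈ N, κ (a * b) = κ a + κ b := fun a ha b hb' => by
    have hu' : e ^ (χe a).val ∈ S := S.pow_mem heS _
    rw [hκ, hκ, hκ, hχe a ha b hb', hpow3 he3, ← (invξ _ hu' _ (hNdec b hb')).2,
      ← hξadd _ (hNdec a ha) _ (invξ _ hu' _ (hNdec b hb')).1]
    congr 1
    group
  have hκW : ∀ w ∈ W, κ w = ξ w := fun w hw => by
    rw [hκ, (hχe0 w (hWN hw)).2 hw]; simp
  have hκe : κ e = 0 := by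
    rw [hκ, hχee, ZMod.val_one, pow_one, mul_inv_cancel]; exact char_one hξadd
  have hM3 : M ^ 3 = 2 := by rw [hM2']; exact zmod_three_two_cube
  have hfN : ∀ n ∈ N, f n ∈ N := fun n hn => (hχS0 _ (hfM n (hNS hn))).1 (by
    rw [hweight n (hNS hn), (hχS0 n (hNS hn)).2 hn, mul_zero])
  have hfW : ∀ w ∈ W, f w ∈ W ∧ ξ (f w) = ξ w := by
    have hfW' : ∀ w ∈ W, f w ∈ W := fun w hw => by
      have h1 := hWdec w hw
      rw [show w = w * (g ^ (χg w).val)⁻¹ * g ^ (χg w).val by group,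
        hfS.map_mul (hZS h1) (S.pow_mem hgS _), map_pow hfS hgS]
      exact W.mul_mem (hZW (hfZ _ h1).1) (W.pow_mem hfgW _)
    refine fun w hw => ⟨hfW' w hw, ?_⟩
    have h0 : ξ (f g) = 0 := by
      rw [hgd, map_commutator_elt hfS hh heS]; exact hξcomm _ (hfM h hh) _ (hfM e heS)
    rw [hlinW (fun w => ξ (f w)) (fun a ha b hb' => by
        rw [hfS.map_mul (hWS ha) (hWS hb'), hξadd _ (hfW' a ha) _ (hfW' b hb')])
      (fun y hy => hξC _ (hfC y hy)) w hw, h0, hfl, hξl, mul_zero, zero_add, mul_one]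
  have hκf : ∀ n ∈ N, κ (f n) = κ n := fun n hn => by
    have h1 := lin (Ψ := fun n => κ (f n) - κ n) hχe hχe0 heN hχee
      (fun a ha b hb' => by
        simp only [hfS.map_mul (hNS ha) (hNS hb'), hκadd _ (hfN a ha) _ (hfN b hb'), hκadd a ha b hb']; ring)
      (fun w hw _ => by simp only [hκW _ (hfW w hw).1, (hfW w hw).2, hκW w hw, sub_self]) n hn
    have h2 : κ (f e) = 0 := by
      rw [hu.tor.te, char_pow hκadd heN, hκe, mul_zero]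
    rw [h2, hκe, sub_zero, mul_zero, sub_eq_zero] at h1
    exact h1
  have hσN : ∀ x ∈ S, x * f x ∈ N := fun x hx => (hχS0 _ (S.mul_mem hx (hfM x hx))).1 (by
    rw [hχS x hx _ (hfM x hx), hweight x hx, hM3, ← one_add_mul, show (1 : ZMod 3) + 2 = 0 from rfl, zero_mul])
  let φ : S →* Multiplicative (ZMod 3) :=
    MonoidHom.mk' (fun x => Multiplicative.ofAdd (κ ((x : Ω) * f x))) fun x y => by
      have h1 := hSW (y : Ω) y.2 (f x) (hfM _ x.2)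
      have h2 : κ ((x : Ω) * ⁅(y : Ω), f x⁆ * (x : Ω)⁻¹) = 0 := by
        rw [hκW _ (hWn _ x.2 _ h1), (invξ _ x.2 _ h1).2, hξcomm _ y.2 _ (hfM _ x.2)]
      show Multiplicative.ofAdd (κ (((x * y : S) : Ω) * f ((x * y : S) : Ω))) = _
      rw [← ofAdd_add, ← hκadd _ (hσN _ x.2) _ (hσN _ y.2), Subgroup.coe_mul, hfS.map_mul x.2 y.2,
        show (x : Ω) * y * (f x * f y) =
          ((x : Ω) * ⁅(y : Ω), f x⁆ * (x : Ω)⁻¹) * ((x * f x) * (y * f y)) by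
          simp only [commutatorElement_def]; group,
        hκadd _ (hWN (hWn _ x.2 _ h1)) _ (N.mul_mem (hσN _ x.2) (hσN _ y.2)), h2, zero_add]
  have hlΦ : l ∉ (frattini ↥S).map S.subtype := by
    rintro ⟨x, hx, hxl⟩
    have hker : frattini ↥S ≤ φ.ker := Solv.frattini_le φ.ker
      (fun a b => by rw [MonoidHom.mem_ker, map_commutatorElement, commutatorElement_eq_one_iff_mul_comm, mul_comm])
      (fun a => by
        rw [MonoidHom.mem_ker, _root_.map_pow]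
        exact mult_zmod_three_cube _)
    have h1 : κ ((x : Ω) * f x) = 0 := MonoidHom.mem_ker.1 (hker hx)
    rw [show (x : Ω) = l from hxl, hfl, hκW _ (W.mul_mem hlW hlW), hξadd l hlW l hlW, hξl] at h1
    exact zmod_three_two_ne h1
  -- norms are trivial
  have hcen : ∀ x ∈ S, (∀ s ∈ S, s * x = x * s) → x ∈ C := fun x hx hxc => by
    have hxZ : x ∈ Z₀ := hb.center_mem (hNd.ge.trans hNS) le_rfl hx hxc
    refine (hχl0 x hxZ).1 ((mul_eq_zero.1 ?_).resolve_right hγh)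
    have h1 := lin (Ψ := fun z => χc ⁅h, z⁆) hχl hχl0 hb.l_mem hχll
      (fun a ha b hb' => char_comm_right hχcC (hSZC h hh a ha) (hSZC h hh b hb') (invc a (hZS ha)))
      (fun y hy _ => hcomC' _ _ (hCcen h hh y hy)) x hxZ
    rw [hcomC' _ _ (hxc h hh), ← hγl] at h1
    exact h1.symm
  have hW3 : NormTrivial 3 S := normTrivial_three fun M₁ hM₁n hM₁i => Or.inl fun u m _ => by
    haveI := hM₁n
    have hM₁c : Nat.card M₁ = 3 ^ 4 := by
      have h1 := M₁.card_mul_index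
      rw [hM₁i, hcard, pow_succ 3 4] at h1
      exact Nat.eq_of_mul_eq_mul_right (by norm_num) h1
    have hna := hNA (M₁.map S.subtype) (Subgroup.map_subtype_le M₁)
      (by rw [Subgroup.card_map_of_injective S.subtype_injective, hM₁c])
    push Not at hna
    obtain ⟨_, ⟨a, ha, rfl⟩, _, ⟨b, hb', rfl⟩, hab⟩ := hna
    obtain ⟨d, hd⟩ : ∃ d : S, d = ⁅a, b⁆ := ⟨_, rfl⟩
    have hdM : d ∈ ⁅M₁, M₁⁆ := hd ▸ Subgroup.commutator_mem_commutator ha hb'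
    have hd1 : d ≠ 1 := fun h1 => hab (congrArg Subtype.val
      ((commutatorElement_eq_one_iff_mul_comm (g₁ := a) (g₂ := b)).1 (hd.symm.trans h1)))
    have hdW : (d : Ω) ∈ W := by
      rw [hd, show ((⁅a, b⁆ : S) : Ω) = ⁅(a : Ω), (b : Ω)⁆ from rfl]; exact hSW _ a.2 _ b.2
    obtain ⟨q, hqM, hqC, hq1⟩ : ∃ q : S, q ∈ ⁅M₁, M₁⁆ ∧ (q : Ω) ∈ C ∧ q ≠ 1 := by
      by_cases hdC : (d : Ω) ∈ C
      · exact ⟨d, hdM, hdC, hd1⟩
      · obtain ⟨s, hs, hsd⟩ : ∃ s ∈ S, s * (d : Ω) ≠ d * s := by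
          by_contra hall
          push Not at hall
          exact hdC (hcen _ d.2 hall)
        refine ⟨⁅(⟨s, hs⟩ : S), d⁆, ?_, hSWC s hs _ hdW, fun h1 => hsd ?_⟩
        · rw [commutatorElement_def]
          exact Subgroup.mul_mem _ ((inferInstance : (⁅M₁, M₁⁆).Normal).conj_mem d hdM _)
            (Subgroup.inv_mem _ hdM)
        · exact congrArg Subtype.val ((commutatorElement_eq_one_iff_mul_comm (g₁ := (⟨s, hs⟩ : S)) (g₂ := d)).1 h1)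
    have hq1' : (q : Ω) ≠ 1 := fun h1 => hq1 (Subtype.ext h1)
    have hqo : orderOf (q : Ω) = 3 := orderOf_eq_prime (hb.exp _ (hb.leZ (hCZ hqC))) hq1'
    have hle : C ≤ ((⁅M₁, M₁⁆ : Subgroup S)).map S.subtype :=
      (eq_of_card hCS (Subgroup.zpowers_le.2 hqC) (by rw [Nat.card_zpowers, hqo, hcardC])).ge.trans
        (Subgroup.zpowers_le.2 ⟨q, hqM, rfl⟩)
    obtain ⟨y, hy, hye⟩ := hle (hSWC (u : Ω) u.2 _ (hSW (u : Ω) u.2 (m : Ω) m.2))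
    rwa [show ⁅u, ⁅u, m⁆⁆ = y from Subtype.ext hye.symm]
  refine focal_ne hS hF hW3 hlS hlΦ (fun γ hγ => hDΦ ?_) hfoc
  -- automorphisms fix `l` modulo `D`
  have hγ' : γ⁻¹ ∈ F.autGroup S := (F.autGroup S).inv_mem hγ
  have hmap : ∀ α ∈ F.autGroup S, Map F S (av α) := fun α hα => map_of_mem_autGroup le_rfl hα
  have hCinv : ∀ α ∈ F.autGroup S, ∀ y ∈ C, av α y ∈ C := fun α hα y hy =>
    hcen _ (av_mem α (hCS hy)) fun s hs => by
      obtain ⟨u, hu', rfl⟩ : ∃ u ∈ S, av α u = s := ⟨av α⁻¹ s, av_mem _ hs, av_av_inv α hs⟩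
      rw [← (hmap α hα).map_mul hu' (hCS hy), ← (hmap α hα).map_mul (hCS hy) hu', hCcen u hu' y hy]
  have hWchar : ∀ x ∈ S, (∀ s ∈ S, ⁅x, s⁆ ∈ C) → x ∈ W := fun x hx hxs => by
    have hxN : x ∈ N := (hχS0 x hx).1 (by
      rw [← hδS x hx, hδ]; exact (hχg0 _ (hSW x hx e heS)).2 (hCZ (hxs e heS)))
    refine (hχe0 x hxN).1 ?_
    have h1 := lin (Ψ := fun n => χg ⁅h, n⁆) hχe hχe0 heN hχee
      (fun a ha b hb' => char_comm_right hχg (hSW h hh a (hNS ha)) (hSW h hh b (hNS hb')) (invg a (hNS ha)))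
      (fun w hw _ => (hχg0 _ (hSW h hh w (hWS hw))).2 (hCZ (hSWC h hh w hw))) x hxN
    have h2 : ⁅h, x⁆ ∈ C := by rw [← commutatorElement_inv]; exact C.inv_mem (hxs h hh)
    rw [(hχg0 _ (hSW h hh x hx)).2 (hCZ h2), ← hgd, hχgg, mul_one] at h1
    exact h1.symm
  have hWinv : ∀ α ∈ F.autGroup S, ∀ w ∈ W, av α w ∈ W := fun α hα w hw =>
    hWchar _ (av_mem α (hWS hw)) fun s hs => by
      obtain ⟨u, hu', rfl⟩ : ∃ u ∈ S, av α u = s := ⟨av α⁻¹ s, av_mem _ hs, av_av_inv α hs⟩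
      rw [← map_commutator_elt (hmap α hα) (hWS hw) hu']
      refine hCinv α hα _ ?_
      rw [← commutatorElement_inv]; exact C.inv_mem (hSWC u hu' w hw)
  have hDinv : ∀ α ∈ F.autGroup S, ∀ x ∈ D, av α x ∈ D := fun α hα x hx =>
    hSD (commutator_map (hmap α hα) (fun y hy => av_mem α hy) x (hDS hx))
  have hKD : ∀ k ∈ K, ∀ x ∈ D, Commute k x := fun k hk x hx => by
    have h1 := (show Commute k _ from hCcen k (hKS hk) _ (hDdec x hx)).mul_right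
      ((show Commute k g from (hKg k hk).symm).pow_right (χg x).val)
    rwa [inv_mul_cancel_right] at h1
  have hKinv : ∀ α ∈ F.autGroup S, ∀ k ∈ K, av α k ∈ K := fun α hα k hk =>
    (hK _).2 ⟨av_mem α (hKS hk), (hA0 _ (av_mem α (hKS hk))).2 (by
      obtain ⟨u, hu', rfl⟩ : ∃ u ∈ D, av α u = g :=
        ⟨av α⁻¹ g, hDinv _ ((F.autGroup S).inv_mem hα) g ((hD g).2 ⟨hgW, hξg⟩), av_av_inv α hgS⟩
      have huS := hWS ((hD u).1 hu').1
      rw [← (hmap α hα).map_mul huS (hKS hk), ← (hmap α hα).map_mul (hKS hk) huS, (hKD k hk u hu').eq])⟩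
  obtain ⟨k, hkd⟩ : ∃ k, k = av γ k₀ := ⟨_, rfl⟩
  have hkK : k ∈ K := hkd ▸ hKinv γ hγ k₀ hk₀K
  have hb0 : χS k ≠ 0 := fun h0 => by
    have h1 := hWinv _ hγ' k (hKN k hkK h0)
    rw [hkd, av_inv_av γ hk₀S] at h1
    have := (hχS0 k₀ hk₀S).2 (hWN h1)
    rw [hk₀χ] at this
    exact one_ne_zero this
  obtain ⟨x, hxd⟩ : ∃ x, x = av γ e := ⟨_, rfl⟩
  have hxS : x ∈ S := hxd ▸ av_mem γ heS
  have ha0 : A x * (A e)⁻¹ ≠ 0 := mul_ne_zero (fun h0 => by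
    have h1 := hKinv _ hγ' x ((hK x).2 ⟨hxS, h0⟩)
    rw [hxd, av_inv_av γ heS] at h1
    exact hAe ((hK e).1 h1).2) (inv_ne_zero hAe)
  have hγC : ∀ y ∈ C, χc (av γ y) = χc (av γ c) * χc y := fun y hy => by
    obtain ⟨i, rfl⟩ := hCpow y (hC ▸ hy)
    show χc (av γ (c ^ i)) = _ * χc (c ^ i)
    rw [map_pow (hmap γ hγ) hcS, char_pow hχc hb.c_mem, hχcc, mul_one,
      char_pow hχc (hCZ (hCinv γ hγ c hcC)), mul_comm]
  have hKW : ∀ k ∈ K, χS k = 0 ↔ k ∈ W := fun k hk =>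
    ⟨hKN k hk, fun h1 => (hχS0 k (hKS hk)).2 (hWN h1)⟩
  have hKK : ∀ a ∈ K, ∀ b ∈ K, χg ⁅a, b⁆ = 0 := by
    have hKW0 : ∀ a ∈ S, ∀ w ∈ W, χg ⁅a, w⁆ = 0 := fun a ha w hw =>
      (hχg0 _ (hSW a ha w (hWS hw))).2 (hCZ (hSWC a ha w hw))
    have h1 : ∀ a ∈ K, χg ⁅a, k₀⁆ = 0 := fun a ha => by
      rw [lin (Ψ := fun a => χg ⁅a, k₀⁆) (fun x hx y hy => hχS x (hKS hx) y (hKS hy)) hKW hk₀K hk₀χ
        (fun u hu' v hv => char_comm_left hχg (hSW u (hKS hu') k₀ hk₀S) (hSW v (hKS hv) k₀ hk₀S)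
          (invg u (hKS hu')))
        (fun w hw _ => by
          rw [← commutatorElement_inv, char_inv hχg (hSW _ hk₀S w (hWS hw)), hKW0 k₀ hk₀S w hw, neg_zero]) a ha,
        commutatorElement_self, char_one hχg, mul_zero]
    intro a ha b hb'
    rw [lin (Ψ := fun b => χg ⁅a, b⁆) (fun x hx y hy => hχS x (hKS hx) y (hKS hy)) hKW hk₀K hk₀χ
      (fun u hu' v hv => char_comm_right hχg (hSW a (hKS ha) u (hKS hu')) (hSW a (hKS ha) v (hKS hv))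
        (invg u (hKS hu')))
      (fun w hw _ => hKW0 a (hKS ha) w hw) b hb', h1 a ha, mul_zero]
  have hQ : χg ⁅k, x⁆ = A x * (A e)⁻¹ * χS k := by
    rw [lin (A := S) (B := K) (χ := fun s => A s * (A e)⁻¹) (Ψ := fun s => χg ⁅k, s⁆) (a := e)
      (fun u hu' v hv => by simp only [hAadd u hu' v hv, add_mul])
      (fun u hu' => by simp [hK, hu', hAe]) heS (mul_inv_cancel₀ hAe)
      (fun u hu' v hv => char_comm_right hχg (hSW k (hKS hkK) u hu') (hSW k (hKS hkK) v hv) (invg u hu'))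
      (fun u hu' _ => hKK k hkK u hu') x hxS, ← hδ, hδS k (hKS hkK)]
  have hD1 : ∀ w ∈ D, ∀ s ∈ S, χc ⁅w, s⁆ = χg w * A s := fun w hw s hs => by
    obtain ⟨hwW, hw0⟩ := (hD w).1 hw
    rw [hlinW (fun w => χc ⁅w, s⁆) (fun u hu' v hv => char_comm_left hχcC
        (by rw [← commutatorElement_inv]; exact C.inv_mem (hSWC s hs u hu'))
        (by rw [← commutatorElement_inv]; exact C.inv_mem (hSWC s hs v hv)) (invc u (hWS hu')))
      (fun y hy => hcomC' _ _ (hCcen s hs y hy).symm) w hwW, hw0, zero_mul, add_zero, hA]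
  have hk₀e : ⁅k₀, e⁆ ∈ D := hSD (Subgroup.commutator_mem_commutator hk₀S heS)
  have hkx : ⁅k, x⁆ ∈ D := hSD (Subgroup.commutator_mem_commutator (hKS hkK) hxS)
  have e1 : χc (av γ c) = χS k * ξ (av γ l) := by
    have h1 := hγC _ (hSZC k₀ hk₀S l hb.l_mem)
    rw [map_commutator_elt (hmap γ hγ) hk₀S hlS, ← hkd, hlinW (fun w => χc ⁅k, w⁆)
        (fun u hu' v hv => char_comm_right hχcC (hSWC k (hKS hkK) u hu') (hSWC k (hKS hkK) v hv)
          (invc u (hWS hu')))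
        (fun y hy => hcomC' _ _ (hCcen k (hKS hkK) y hy)) _ (hWinv γ hγ l hlW),
      hcomC' _ _ (hKg k hkK).symm, ← hγl, ← hγl, hγS k (hKS hkK), hγS k₀ hk₀S, hk₀χ] at h1
    refine mul_right_cancel₀ hγh ?_
    linear_combination -h1
  have e2 : χc (av γ c) = χS k * (A x * (A e)⁻¹ * (A x * (A e)⁻¹)) := by
    have hy : ⁅⁅k₀, e⁆, e⁆ ∈ C := by
      rw [← commutatorElement_inv]; exact C.inv_mem (hSWC e heS _ ((hD _).1 hk₀e).1)
    have h1 := hγC _ hy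
    rw [map_commutator_elt (hmap γ hγ) (hWS ((hD _).1 hk₀e).1) heS,
      map_commutator_elt (hmap γ hγ) hk₀S heS, ← hkd, ← hxd, hD1 _ hkx x hxS, hD1 _ hk₀e e heS, hQ,
      ← hδ, hδS k₀ hk₀S, hk₀χ] at h1
    refine mul_right_cancel₀ hAe ?_
    field_simp at h1 ⊢
    linear_combination -h1
  have hξγ : ξ (av γ l) = 1 := by
    rw [mul_left_cancel₀ hb0 (e1.symm.trans e2)]
    exact zmod_three_sq _ ha0
  exact (hD _).2 ⟨W.mul_mem (W.inv_mem hlW) (hWinv γ hγ l hlW), by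
    rw [hξadd _ (W.inv_mem hlW) _ (hWinv γ hγ l hlW), char_inv hξadd hlW, hξl, hξγ, neg_add_cancel]⟩

end Cfsg.Agent.Local.FS.Fifth
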