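import Cfsg.Agent.Lib.Local.FS.OrderFifth.Cube
import Cfsg.Agent.Lib.Local.FS.EssentialSL2
import Cfsg.Agent.Lib.Local.FS.Centric
import Cfsg.Agent.Lib.Local.FS.Essential

/-!
An essential `p × p` at the bottom of a chain of a group of maximal class of order `p⁵`: a torus element
of its automiser extends to the whole of `S`.
-/

set_option autoImplicit false

open scoped commutatorElement

namespace Cfsg.Agent.Local.FS.Fifth

open Cfsg Cfsg.FusionSystem Cfsg.Agent.Fusion Cfsg.Agent.Fusion.Dickson Tower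

section Diag

variable {H : Type*} [Group H] {p : ℕ} [hp : Fact p.Prime]

/-- The diagonal elements in a homomorphism on `SL₂(p)` known on two transvections. -/
theorem sl2_diag (hc : ∀ x y : H, x * y = y * x) (hexp : ∀ x : H, x ^ p = 1) {e₁ e₂ : H}
    (ρ : Matrix.SpecialLinearGroup (Fin 2) (ZMod p) →* MulAut H) (r1 : ρ (upU 1) e₁ = e₁)
    (r2 : ρ (upU 1) e₂ = e₁ * e₂) (r3 : ρ (lowL 1) e₁ = e₁ * e₂) (r4 : ρ (lowL 1) e₂ = e₂) (t : (ZMod p)ˣ) :
    ∃ D, ρ D e₁ = e₁ ^ (t : ZMod p).val ∧ ρ D e₂ = e₂ ^ ((t⁻¹ : (ZMod p)ˣ) : ZMod p).val := by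
  haveI : NeZero p := ⟨hp.out.ne_zero⟩
  haveI : Fact (1 < p) := ⟨hp.out.one_lt⟩
  letI : CommGroup H := { (inferInstance : Group H) with mul_comm := hc }
  obtain ⟨W, hW⟩ : ∃ W : ZMod p → ZMod p → H, ∀ i j, W i j = e₁ ^ i.val * e₂ ^ j.val := ⟨_, fun _ _ => rfl⟩
  have hadd : ∀ (e : H) (i j : ZMod p), e ^ (i + j).val = e ^ i.val * e ^ j.val := fun e i j => by
    rw [ZMod.val_add, ← pow_eq_pow_mod _ (hexp e), pow_add]
  have hU : ∀ a i j, ρ (upU a) (W i j) = W (i + a * j) j := by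
    have h1 : ∀ i j, ρ (upU 1) (W i j) = W (i + j) j := fun i j => by
      rw [hW, hW, _root_.map_mul, _root_.map_pow, _root_.map_pow, r1, r2, mul_pow, hadd, ← mul_assoc]
    have hn : ∀ (n : ℕ) i j, ρ (upU 1 ^ n) (W i j) = W (i + n * j) j := by
      intro n
      induction n with
      | zero => intro i j; rw [pow_zero, _root_.map_one, MulAut.one_apply, Nat.cast_zero, zero_mul, add_zero]
      | succ n ih =>
        intro i j
        rw [pow_succ', _root_.map_mul, MulAut.mul_apply, ih, h1, Nat.cast_succ, add_mul, one_mul, add_assoc]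
    intro a i j
    have := hn a.val i j
    rwa [upU_pow, mul_one, ZMod.natCast_zmod_val] at this
  have hL : ∀ a i j, ρ (lowL a) (W i j) = W i (j + a * i) := by
    have h1 : ∀ i j, ρ (lowL 1) (W i j) = W i (j + i) := fun i j => by
      rw [hW, hW, _root_.map_mul, _root_.map_pow, _root_.map_pow, r3, r4, mul_pow, hadd, mul_assoc,
        mul_comm (e₂ ^ i.val)]
    have hn : ∀ (n : ℕ) i j, ρ (lowL 1 ^ n) (W i j) = W i (j + n * i) := by
      intro n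
      induction n with
      | zero => intro i j; rw [pow_zero, _root_.map_one, MulAut.one_apply, Nat.cast_zero, zero_mul, add_zero]
      | succ n ih =>
        intro i j
        rw [pow_succ', _root_.map_mul, MulAut.mul_apply, ih, h1, Nat.cast_succ, add_mul, one_mul, add_assoc]
    intro a i j
    have := hn a.val i j
    rwa [lowL_pow, mul_one, ZMod.natCast_zmod_val] at this
  have hw1 : ∀ i : ZMod p, W i 0 = e₁ ^ i.val := fun i => by rw [hW, ZMod.val_zero, pow_zero, mul_one]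
  have hw2 : ∀ j : ZMod p, W 0 j = e₂ ^ j.val := fun j => by rw [hW, ZMod.val_zero, pow_zero, one_mul]
  have ht : (t : ZMod p) * (t⁻¹ : (ZMod p)ˣ) = 1 := Units.mul_inv t
  refine ⟨upU (t : ZMod p) * lowL (-((t⁻¹ : (ZMod p)ˣ) : ZMod p)) * upU (t : ZMod p) *
    (upU (-1) * lowL 1 * upU (-1)), ?_, ?_⟩
  · rw [← hw1, show e₁ = W 1 0 by rw [hw1, ZMod.val_one, pow_one]]
    simp only [_root_.map_mul, MulAut.mul_apply, hU, hL]
    exact congrArg₂ W (by linear_combination (-(t : ZMod p)) * ht) (by linear_combination (-1 : ZMod p) * ht)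
  · rw [← hw2, show e₂ = W 0 1 by rw [hw2, ZMod.val_one, pow_one]]
    simp only [_root_.map_mul, MulAut.mul_apply, hU, hL]
    exact congrArg₂ W (by linear_combination (1 : ZMod p) * ht) (by ring)

end Diag

variable {Ω : Type*} [Group Ω] {S : Subgroup Ω} {p : ℕ}

/-- A chain of a group of maximal class of order `p⁵` above a self-centralising `p × p`. -/
structure Chain (S : Subgroup Ω) (p : ℕ) (E F₂ F₃ F₄ : Subgroup Ω) : Prop where
  pgroup : IsPGroup p S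
  leS : F₂ ≤ S
  le32 : F₃ ≤ F₂
  le43 : F₄ ≤ F₃
  leE : F₄ ≤ E
  hES : E ≤ S
  cS : Nat.card S = p ^ 5
  c2 : Nat.card F₂ = p ^ 3
  c3 : Nat.card F₃ = p ^ 2
  c4 : Nat.card F₄ = p
  cE : Nat.card E = p ^ 2
  expE : ∀ y ∈ E, y ^ p = 1
  ab2 : ∀ a ∈ F₂, ∀ b ∈ F₂, a * b = b * a
  drop1 : ∀ a ∈ S, ∀ b ∈ S, ⁅a, b⁆ ∈ F₂
  drop2 : ∀ a ∈ S, ∀ b ∈ F₂, ⁅a, b⁆ ∈ F₃
  drop3 : ∀ a ∈ S, ∀ b ∈ F₃, ⁅a, b⁆ ∈ F₄
  central : ∀ z ∈ F₄, ∀ s ∈ S, s * z = z * s
  infE : ∀ y ∈ E, y ∈ F₂ → y ∈ F₄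
  self : ∀ c ∈ S, (∀ y ∈ E, y * c = c * y) → c ∈ E
  move : ∀ y ∈ E, y ∉ F₄ → ∃ s ∈ S, ⁅s, y⁆ ∉ F₃

variable [Finite S] [hp : Fact p.Prime] {E F₂ F₃ F₄ : Subgroup Ω}

theorem Chain.cent_elt (hc : Chain S p E F₂ F₃ F₄) {x : Ω} (hx : x ∈ E) (hx4 : x ∉ F₄) {c : Ω} (hcS : c ∈ S)
    (h : c * x = x * c) : c ∈ E := by
  have hgen : Subgroup.zpowers x ⊔ F₄ = E := by
    refine eq_of_card hc.hES (sup_le (Subgroup.zpowers_le.2 hx) hc.leE) ?_
    have hlt : F₄ < Subgroup.zpowers x ⊔ F₄ := lt_of_le_of_ne le_sup_right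
      fun he => hx4 (he ▸ Subgroup.mem_sup_left (Subgroup.mem_zpowers x))
    have h1 := step_le hc.pgroup ((sup_le (Subgroup.zpowers_le.2 hx) hc.leE).trans hc.hES) hlt
    rw [hc.c4, ← sq] at h1
    rw [hc.cE]; exact h1
  refine hc.self c hcS fun y hy => ?_
  have hle : E ≤ Subgroup.centralizer ({c} : Set Ω) := hgen ▸ sup_le
    (Subgroup.zpowers_le.2 (Subgroup.mem_centralizer_singleton_iff.2 h.symm))
    fun w hw => Subgroup.mem_centralizer_singleton_iff.2 (hc.central w hw c hcS).symm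
  exact Subgroup.mem_centralizer_singleton_iff.1 (hle hy)

/-- Commutation with `x ∈ E ∖ F₄` maps `F₂` onto `F₃`. -/
theorem Chain.onto (hc : Chain S p E F₂ F₃ F₄) {x : Ω} (hx : x ∈ E) (hx4 : x ∉ F₄) :
    ∀ u ∈ F₃, ∃ g ∈ F₂, ⁅g, x⁆ = u := by
  have hxS := hc.hES hx
  haveI := finite_of_le (hc.leS)
  have hm : ∀ g ∈ F₂, ⁅g, x⁆ ∈ F₃ := fun g hg => by
    rw [← commutatorElement_inv]; exact F₃.inv_mem (hc.drop2 x hxS g hg)
  let φ : F₂ →* F₃ := MonoidHom.mk' (fun g => ⟨⁅(g : Ω), x⁆, hm g g.2⟩) fun a b => Subtype.ext (by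
    show ⁅(a : Ω) * b, x⁆ = ⁅(a : Ω), x⁆ * ⁅(b : Ω), x⁆
    rw [commutator_conj_left, hc.ab2 a a.2 _ (hc.le32 (hm b b.2)), mul_inv_cancel_right]
    exact hc.ab2 _ (hc.le32 (hm b b.2)) _ (hc.le32 (hm a a.2)))
  have hker : φ.ker ≤ F₄.subgroupOf F₂ := fun g hg => by
    have h1 : ⁅(g : Ω), x⁆ = 1 := congrArg Subtype.val (MonoidHom.mem_ker.1 hg)
    exact Subgroup.mem_subgroupOf.2
      (hc.infE _ (hc.cent_elt hx hx4 (hc.leS g.2) (commutatorElement_eq_one_iff_mul_comm.1 h1)) g.2)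
  have hcard : Nat.card φ.ker ≤ p := (Subgroup.card_le_of_le hker).trans (by
    rw [Nat.card_congr (Subgroup.subgroupOfEquivOfLe (hc.le43.trans hc.le32)).toEquiv, hc.c4])
  haveI := finite_of_le (hc.le32.trans hc.leS)
  have hrange : φ.range = ⊤ := by
    refine Subgroup.eq_top_of_le_card _ ?_
    have h1 := φ.ker.card_mul_index
    rw [Subgroup.index_ker, hc.c2, pow_succ' p 2] at h1
    rw [hc.c3]
    exact Nat.le_of_mul_le_mul_left (h1.symm.le.trans (Nat.mul_le_mul_right _ hcard)) hp.out.pos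
  intro u hu
  obtain ⟨g, hg⟩ := hrange.ge (Subgroup.mem_top (⟨u, hu⟩ : F₃))
  exact ⟨g, g.2, congrArg Subtype.val hg⟩

variable {F : FusionSystem S}

set_option maxHeartbeats 1000000 in
/-- A torus element of the automiser of the pearl extends to `S`. -/
theorem Chain.torus (hc : Chain S p E F₂ F₃ F₄) (hF : F.IsSaturated p) (hE : F.IsEssential p E)
    (t : (ZMod p)ˣ) :
    ∃ x ∈ E, x ∉ F₄ ∧ ∃ z ∈ F₄, z ≠ 1 ∧ ∃ α ∈ F.autGroup S,
      av α x = x ^ ((t : ZMod p)).val ∧ av α z = z ^ ((t⁻¹ : (ZMod p)ˣ) : ZMod p).val := by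
  classical
  haveI : NeZero p := ⟨hp.out.ne_zero⟩
  have hS := hc.pgroup
  have hES := hc.hES
  have h3S : F₃ ≤ S := hc.le32.trans hc.leS
  have h4S : F₄ ≤ S := hc.le43.trans h3S
  haveI := finite_of_le hES
  haveI := mulAut_finite_of_le hES
  have hcm : ∀ {a b : Ω} {X : Subgroup Ω}, ⁅a, b⁆ ∈ X → ⁅b, a⁆ ∈ X := fun {a b X} h => by
    rw [← commutatorElement_inv]; exact X.inv_mem h
  have nrm : ∀ X : Subgroup Ω, X ≤ S → (∀ s ∈ S, ∀ y ∈ X, ⁅s, y⁆ ∈ X) →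
      S ≤ Subgroup.normalizer (X : Set Ω) := fun X hX hn s hs =>
    mem_normalizer_of_conj_mem hX (normalizes_of_comm (hn s hs))
  have n4 : S ≤ Subgroup.normalizer (F₄ : Set Ω) := nrm F₄ h4S fun s hs y hy => hc.drop3 s hs y (hc.le43 hy)
  have n3 : S ≤ Subgroup.normalizer (F₃ : Set Ω) := nrm F₃ h3S fun s hs y hy => hc.drop2 s hs y (hc.le32 hy)
  have n2 : S ≤ Subgroup.normalizer (F₂ : Set Ω) := nrm F₂ hc.leS fun s hs y hy => hc.drop1 s hs y (hc.leS hy)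
  have hEab : ∀ a ∈ E, ∀ b ∈ E, a * b = b * a := fun a ha b hb =>
    congrArg Subtype.val ((IsPGroup.isMulCommutative_of_card_eq_prime_sq hc.cE).is_comm.comm (⟨a, ha⟩ : E) ⟨b, hb⟩)
  obtain ⟨N, hN⟩ : ∃ N, N = normalizerIn S E := ⟨_, rfl⟩
  have hNS : N ≤ S := hN ▸ inf_le_left
  have hEN : E ≤ N := hN ▸ le_normalizerIn hES
  have hNn : N ≤ Subgroup.normalizer (E : Set Ω) := hN ▸ inf_le_right
  have h3N : F₃ ≤ N := fun w hw => hN ▸ ⟨h3S hw, mem_normalizer_of_conj_mem hES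
    (normalizes_of_comm fun y hy => hc.leE (hcm (hc.drop3 y (hES hy) w hw)))⟩
  -- an element of `F₃` outside `E`
  have h43 : F₄ < F₃ := lt_of_le_of_ne hc.le43 fun he => by
    have := hc.c3
    rw [← he, hc.c4, sq] at this
    have := hp.out.two_le
    nlinarith
  obtain ⟨n₀, hn₀, hn₀4⟩ := SetLike.exists_of_lt h43
  have hn₀N := h3N hn₀
  have hn₀S := h3S hn₀
  have hn₀E : n₀ ∉ E := fun h => hn₀4 (hc.infE _ h (hc.le32 hn₀))
  have hcon : ∀ y ∈ E, ∀ n ∈ N, ⁅n, y⁆ ∈ F₄ := fun y hy n hn =>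
    conj_fix hS hES hc.leE (hES.trans n4) (by rw [hc.cE, hc.c4, sq]) (hNS hn) (hNn hn) (n4 (hNS hn)) y hy
  have hne : ∀ y ∈ E, y ∉ F₄ → ⁅n₀, y⁆ ≠ 1 := fun y hy hy4 h =>
    hn₀E (hc.cent_elt hy hy4 hn₀S (commutatorElement_eq_one_iff_mul_comm.1 h))
  have hgen4 : ∀ z ∈ F₄, z ≠ 1 → Subgroup.zpowers z = F₄ := fun z hz hz1 => eq_of_card h4S
    (Subgroup.zpowers_le.2 hz) (by rw [hc.c4, Nat.card_zpowers, orderOf_eq_prime (hc.expE z (hc.leE hz)) hz1])
  have hpowE : ∀ {z : Ω}, z ∈ E → ∀ y ∈ Subgroup.zpowers z, ∃ i : ℕ, z ^ i = y := fun {z} hz y hy =>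
    (isOfFinOrder_iff_pow_eq_one.2 ⟨p, hp.out.pos, hc.expE z hz⟩).mem_powers_iff_mem_zpowers.2 hy
  have hpow : ∀ m : ℕ, ∀ y ∈ E, ⁅n₀ ^ m, y⁆ = ⁅n₀, y⁆ ^ m := by
    intro m
    induction m with
    | zero => intro y _; simp
    | succ m ih =>
      intro y hy
      rw [pow_succ n₀, commutator_conj_left, ih y hy, hc.central _ (hcon y hy n₀ hn₀N) _ (S.pow_mem hn₀S m),
        mul_inv_cancel_right, pow_succ']
  -- some automorphism moves `F₄`
  obtain ⟨z₁, hz₁, hz₁1⟩ : ∃ z ∈ F₄, z ≠ 1 := by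
    by_contra hh
    push Not at hh
    have h1 : F₄ = ⊥ := (Subgroup.eq_bot_iff_forall _).2 hh
    have := hc.c4
    rw [h1, Subgroup.card_bot] at this
    exact hp.out.ne_one this.symm
  obtain ⟨γ, hγ, hγz⟩ : ∃ γ ∈ F.autGroup E, av γ z₁ ∉ F₄ := by
    by_contra hh
    push Not at hh
    have hinv : ∀ α ∈ F.autGroup E, ∀ z ∈ F₄, av α z ∈ F₄ := fun α hα z hz => by
      obtain ⟨i, rfl⟩ := hpowE (hc.leE hz₁) z (hgen4 z₁ hz₁ hz₁1 ▸ hz)
      rw [Tower.map_pow (map_of_mem_autGroup hES hα) (hc.leE hz₁)]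
      exact F₄.pow_mem (hh α hα) i
    obtain ⟨x₀, hx₀, hx₀4⟩ : ∃ x ∈ E, x ∉ F₄ := by
      by_contra h'
      push Not at h'
      haveI := finite_of_le h4S
      have := Subgroup.card_le_of_le (K := F₄) (H := E) (show E ≤ F₄ from h')
      rw [hc.cE, hc.c4] at this
      have := hp.out.two_le
      nlinarith
    refine hn₀E (le_of_normal_autInducedBy hS hE.1 (radical_of_essential hS hF hE) (A := N) (hN ▸ le_rfl)
      (fun α hα n hn => ?_) hn₀N)
    have hm := map_of_mem_autGroup hES hα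
    have hm' := map_of_mem_autGroup hES ((F.autGroup E).inv_mem hα)
    obtain ⟨d, hd⟩ : ∃ d : Ω → Ω, ∀ y, d y = av α (n * av α⁻¹ y * n⁻¹) := ⟨_, fun _ => rfl⟩
    have hdy : ∀ y ∈ E, d y = av α ⁅n, av α⁻¹ y⁆ * y := fun y hy => by
      have h1 := hcon _ (av_mem α⁻¹ hy) n hn
      rw [hd, show n * av α⁻¹ y * n⁻¹ = ⁅n, av α⁻¹ y⁆ * av α⁻¹ y by rw [commutatorElement_def]; group,
        hm.map_mul (hc.leE h1) (av_mem _ hy), av_av_inv α hy]
    have hd4 : ∀ z ∈ F₄, d z = z := fun z hz => by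
      rw [hdy z (hc.leE hz), commutatorElement_eq_one_iff_mul_comm.2
        (hc.central _ (hinv _ ((F.autGroup E).inv_mem hα) z hz) n (hNS hn)), hm.map_one, one_mul]
    obtain ⟨k, hk⟩ := hpowE (hc.leE (hcon x₀ hx₀ n₀ hn₀N)) (av α ⁅n, av α⁻¹ x₀⁆)
      (hgen4 _ (hcon x₀ hx₀ n₀ hn₀N) (hne x₀ hx₀ hx₀4) ▸ hinv α hα _ (hcon _ (av_mem α⁻¹ hx₀) n hn))
    have hs : n₀ ^ k ∈ S := S.pow_mem hn₀S k
    refine ⟨n₀ ^ k, N.pow_mem hn₀N k, fun y hy => ?_⟩
    show av α (n * av α⁻¹ y * n⁻¹) = n₀ ^ k * y * (n₀ ^ k)⁻¹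
    rw [← hd]
    have hgenE : E = Subgroup.zpowers x₀ ⊔ F₄ := by
      refine (eq_of_card hES (sup_le (Subgroup.zpowers_le.2 hx₀) hc.leE) ?_).symm
      have hlt : F₄ < Subgroup.zpowers x₀ ⊔ F₄ := lt_of_le_of_ne le_sup_right
        fun he => hx₀4 (he ▸ Subgroup.mem_sup_left (Subgroup.mem_zpowers x₀))
      have h1 := step_le hS ((sup_le (Subgroup.zpowers_le.2 hx₀) hc.leE).trans hES) hlt
      rw [hc.c4, ← sq] at h1
      rw [hc.cE]; exact h1
    have key : ∀ w ∈ Subgroup.zpowers x₀ ⊔ F₄, w ∈ E ∧ d w = n₀ ^ k * w * (n₀ ^ k)⁻¹ := by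
      intro w hw
      rw [Subgroup.sup_eq_closure] at hw
      induction hw using Subgroup.closure_induction with
      | mem u hu =>
        rcases hu with hu | hu
        · obtain ⟨i, rfl⟩ := hpowE hx₀ u hu
          refine ⟨E.pow_mem hx₀ i, ?_⟩
          have hdp : ∀ i : ℕ, d (x₀ ^ i) = d x₀ ^ i := fun i => by
            rw [hd, hd, Tower.map_pow hm' hx₀, ← conj_pow, Tower.map_pow hm]
            exact conj_mem_of_normalizer (hNn hn) (av_mem _ hx₀)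
          rw [hdp, hdy x₀ hx₀, ← hk, ← conj_pow]
          congr 1
          rw [← hpow k x₀ hx₀, commutatorElement_def]; group
        · exact ⟨hc.leE hu, by rw [hd4 u hu, hc.central u hu _ hs, mul_inv_cancel_right]⟩
      | one => exact ⟨E.one_mem, by rw [hd4 1 F₄.one_mem]; group⟩
      | mul a b _ _ iha ihb =>
        refine ⟨E.mul_mem iha.1 ihb.1, ?_⟩
        rw [hd, hm'.map_mul iha.1 ihb.1, show n * (av α⁻¹ a * av α⁻¹ b) * n⁻¹ =
          (n * av α⁻¹ a * n⁻¹) * (n * av α⁻¹ b * n⁻¹) by group,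
          hm.map_mul (conj_mem_of_normalizer (hNn hn) (av_mem _ iha.1))
            (conj_mem_of_normalizer (hNn hn) (av_mem _ ihb.1)), ← hd, ← hd, iha.2, ihb.2]
        group
      | inv a _ iha =>
        refine ⟨E.inv_mem iha.1, ?_⟩
        rw [hd, hm'.map_inv iha.1, show n * (av α⁻¹ a)⁻¹ * n⁻¹ = (n * av α⁻¹ a * n⁻¹)⁻¹ by group,
          hm.map_inv (conj_mem_of_normalizer (hNn hn) (av_mem _ iha.1)), ← hd, iha.2]
        group
    exact (key y (hgenE ▸ hy)).2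
  -- the basis and the two transvections
  obtain ⟨x, hx⟩ : ∃ x, x = av γ z₁ := ⟨_, rfl⟩
  rw [← hx] at hγz
  have hxE : x ∈ E := hx ▸ av_mem γ (hc.leE hz₁)
  have hxS : x ∈ S := hES hxE
  obtain ⟨z, hz⟩ : ∃ z, z = ⁅n₀, x⁆ := ⟨_, rfl⟩
  have hz4 : z ∈ F₄ := hz ▸ hcon x hxE n₀ hn₀N
  have hz1 : z ≠ 1 := hz ▸ hne x hxE hγz
  have hzE : z ∈ E := hc.leE hz4
  obtain ⟨u₁, hu₁, hu₁S⟩ := exists_aut_conj (hNn hn₀N)
  have hu₁F : u₁ ∈ F.autGroup E := autInducedBy_le_autGroup hES (hu₁S S hn₀S)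
  obtain ⟨β, hβ⟩ : ∃ β, β = γ * u₁ * γ⁻¹ := ⟨_, rfl⟩
  have hβF : β ∈ F.autGroup E := hβ ▸ (F.autGroup E).mul_mem ((F.autGroup E).mul_mem hγ hu₁F) ((F.autGroup E).inv_mem hγ)
  have hγm := map_of_mem_autGroup hES hγ
  have hβy : ∀ y ∈ E, ∃ k : ℕ, av β y = y * x ^ k := fun y hy => by
    have hw := av_mem γ⁻¹ hy
    have hq := hcon _ hw n₀ hn₀N
    obtain ⟨i, hi⟩ := hpowE (hc.leE hz₁) _ (hgen4 z₁ hz₁ hz₁1 ▸ hq)
    refine ⟨i, ?_⟩
    rw [hβ, av_mul _ _ hy, av_mul _ _ hw, hu₁ _ hw,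
      show n₀ * av γ⁻¹ y * n₀⁻¹ = ⁅n₀, av γ⁻¹ y⁆ * av γ⁻¹ y by rw [commutatorElement_def]; group,
      hγm.map_mul (hc.leE hq) hw, av_av_inv γ hy, ← hi, Tower.map_pow hγm (hc.leE hz₁), ← hx,
      hEab _ (E.pow_mem hxE i) y hy]
  have hβx : av β x = x := by
    rw [hβ, av_mul _ _ hxE, av_mul _ _ (av_mem _ hxE), hx, av_inv_av γ (hc.leE hz₁), hu₁ _ (hc.leE hz₁),
      hc.central z₁ hz₁ n₀ hn₀S, mul_inv_cancel_right]
  obtain ⟨k, hk⟩ := hβy z hzE
  have hzx : Subgroup.zpowers z ⊔ Subgroup.zpowers x = E := by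
    refine eq_of_card hES (sup_le (Subgroup.zpowers_le.2 hzE) (Subgroup.zpowers_le.2 hxE)) ?_
    have hlt : Subgroup.zpowers z < Subgroup.zpowers z ⊔ Subgroup.zpowers x := lt_of_le_of_ne le_sup_left
      fun he => hγz (hgen4 z hz4 hz1 ▸ he.ge (Subgroup.mem_sup_right (Subgroup.mem_zpowers x)))
    have h1 := step_le hS ((sup_le (Subgroup.zpowers_le.2 hzE) (Subgroup.zpowers_le.2 hxE)).trans hES) hlt
    rw [hgen4 z hz4 hz1, hc.c4, ← sq] at h1
    rw [hc.cE]; convert h1 using 2; rw [hgen4 z hz4 hz1]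
  have hspan : ∀ y : E, ∃ i j : ℕ, y = (⟨z, hzE⟩ : E) ^ i * (⟨x, hxE⟩ : E) ^ j := by
    have key : ∀ w ∈ Subgroup.zpowers z ⊔ Subgroup.zpowers x, ∃ i j : ℕ, w = z ^ i * x ^ j := by
      intro w hw
      rw [Subgroup.sup_eq_closure] at hw
      have h2 : ∀ w ∈ Subgroup.closure ((Subgroup.zpowers z : Set Ω) ∪ (Subgroup.zpowers x : Set Ω)),
          ∃ i j : ℕ, w = z ^ i * x ^ j := by
        intro w hw
        induction hw using Subgroup.closure_induction with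
        | mem u hu =>
          rcases hu with hu | hu
          · obtain ⟨i, rfl⟩ := hpowE hzE u hu; exact ⟨i, 0, by simp⟩
          · obtain ⟨i, rfl⟩ := hpowE hxE u hu; exact ⟨0, i, by simp⟩
        | one => exact ⟨0, 0, by simp⟩
        | mul a b _ _ iha ihb =>
          obtain ⟨i, j, rfl⟩ := iha
          obtain ⟨i', j', rfl⟩ := ihb
          refine ⟨i + i', j + j', ?_⟩
          rw [pow_add, pow_add]
          exact (show Commute (x ^ j) (z ^ i') from hEab _ (E.pow_mem hxE j) _ (E.pow_mem hzE i')).mul_mul_mul_comm _ _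
        | inv a _ iha =>
          obtain ⟨i, j, rfl⟩ := iha
          obtain ⟨i', hi'⟩ := hpowE hzE _ (Subgroup.inv_mem _ (Subgroup.pow_mem _ (Subgroup.mem_zpowers z) i))
          obtain ⟨j', hj'⟩ := hpowE hxE _ (Subgroup.inv_mem _ (Subgroup.pow_mem _ (Subgroup.mem_zpowers x) j))
          refine ⟨i', j', ?_⟩
          rw [hi', hj', mul_inv_rev]
          exact hEab _ (E.inv_mem (E.pow_mem hxE j)) _ (E.inv_mem (E.pow_mem hzE i))
      exact h2 w hw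
    intro y
    obtain ⟨i, j, hij⟩ := key y (hzx.ge y.2)
    exact ⟨i, j, Subtype.ext (by simpa using hij)⟩
  have hEext : ∀ {c d : MulAut E}, c ⟨z, hzE⟩ = d ⟨z, hzE⟩ → c ⟨x, hxE⟩ = d ⟨x, hxE⟩ → c = d := by
    intro c d h1 h2
    refine MulEquiv.ext fun y => ?_
    obtain ⟨i, j, rfl⟩ := hspan y
    rw [_root_.map_mul, _root_.map_mul, _root_.map_pow, _root_.map_pow, _root_.map_pow, _root_.map_pow, h1, h2]
  have hk0 : ¬ p ∣ k := fun hd => by
    have hβ1 : β = 1 := hEext (Subtype.ext (by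
        rw [← av_coe, ← av_coe, hk, av_one hzE,
          orderOf_dvd_iff_pow_eq_one.1 ((orderOf_dvd_of_pow_eq_one (hc.expE x hxE)).trans hd), mul_one]))
      (Subtype.ext (by rw [← av_coe, ← av_coe, hβx, av_one hxE]))
    rw [hβ, conj_eq_one_iff] at hβ1
    refine hne x hxE hγz (commutatorElement_eq_one_iff_mul_comm.2 ?_)
    have h1 := hu₁ x hxE
    rw [hβ1, av_one hxE] at h1
    exact (eq_mul_inv_iff_mul_eq.1 h1).symm
  obtain ⟨m, -, hm⟩ := Nat.exists_mul_mod_eq_one_of_coprime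
    ((hp.out.coprime_iff_not_dvd.2 hk0).symm) hp.out.one_lt
  have hβm : ∀ m : ℕ, av (β ^ m) x = x ∧ av (β ^ m) z = z * x ^ (k * m) := by
    intro m
    induction m with
    | zero => simp [av_one hxE, av_one hzE]
    | succ m ih =>
      refine ⟨by rw [pow_succ', av_mul _ _ hxE, ih.1, hβx], ?_⟩
      rw [pow_succ', av_mul _ _ hzE, ih.2, (map_of_mem_autGroup hES hβF).map_mul hzE (E.pow_mem hxE _),
        Tower.map_pow (map_of_mem_autGroup hES hβF) hxE, hβx, hk, mul_assoc, ← pow_add]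
      congr 2
      ring
  obtain ⟨ρ, -, r1, r2, r3, r4⟩ := exists_sl2_hom (H := E) (p := p) (fun a b => Subtype.ext (hEab a a.2 b b.2))
    (fun a => Subtype.ext (hc.expE a a.2)) hspan hc.cE
  have hup : ρ (upU 1) = u₁ := hEext
    (r1.trans (Subtype.ext (by
      rw [← av_coe u₁, hu₁ z hzE, hc.central z hz4 n₀ hn₀S, mul_inv_cancel_right])))
    (r2.trans (Subtype.ext (by
      rw [← av_coe u₁, hu₁ x hxE]; show z * x = _; rw [hz, commutatorElement_def]; group)))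
  have hlow : ρ (lowL 1) = β ^ m := hEext
    (r3.trans (Subtype.ext (by
      rw [← av_coe (β ^ m), (hβm m).2, Subgroup.coe_mul, pow_eq_pow_mod _ (hc.expE x hxE), hm, pow_one])))
    (r4.trans (Subtype.ext (by rw [← av_coe (β ^ m), (hβm m).1])))
  have hρF : ∀ g, ρ g ∈ F.autGroup E := fun g => by
    have := sl2_le_of_transvections (L := (F.autGroup E).comap ρ)
      (by rw [Subgroup.mem_comap, hup]; exact hu₁F) (by rw [Subgroup.mem_comap, hlow]; exact Subgroup.pow_mem _ hβF m)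
    exact this.ge (Subgroup.mem_top g)
  obtain ⟨D, hD1, hD2⟩ := sl2_diag (fun a b => Subtype.ext (hEab a a.2 b b.2)) (fun a => Subtype.ext (hc.expE a a.2))
    ρ r1 r2 r3 r4 t⁻¹
  rw [inv_inv] at hD2
  obtain ⟨a, ha⟩ : ∃ a, a = ((t : ZMod p)).val := ⟨_, rfl⟩
  obtain ⟨b, hb⟩ : ∃ b, b = (((t⁻¹ : (ZMod p)ˣ) : ZMod p)).val := ⟨_, rfl⟩
  rw [← ha] at hD2 ⊢
  rw [← hb] at hD1 ⊢
  obtain ⟨θ, hθd⟩ : ∃ θ, θ = ρ D := ⟨_, rfl⟩
  have hθF : θ ∈ F.autGroup E := hθd ▸ hρF D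
  have hθz : av θ z = z ^ b := by
    rw [av_apply θ hzE, hθd, hD1]; rfl
  have hθx : av θ x = x ^ a := by
    rw [av_apply θ hxE, hθd, hD2]; rfl
  have hθm := map_of_mem_autGroup hES hθF
  have hap : ¬ p ∣ a := fun hd => by
    have h1 : ((a : ℕ) : ZMod p) = 0 := (ZMod.natCast_eq_zero_iff _ _).2 hd
    rw [ha, ZMod.natCast_zmod_val] at h1
    exact t.ne_zero h1
  have hxa : x ^ a ∈ E ∧ x ^ a ∉ F₄ := ⟨E.pow_mem hxE a, fun h => hγz (by
    obtain ⟨i, -, hi⟩ := Nat.exists_mul_mod_eq_one_of_coprime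
      ((hp.out.coprime_iff_not_dvd.2 hap).symm) hp.out.one_lt
    have h2 := F₄.pow_mem h i
    rwa [← pow_mul, pow_eq_pow_mod _ (hc.expE x hxE), hi, pow_one] at h2)⟩
  -- extension to `N`
  have hθmem : ∀ y ∈ E, av θ y ∈ E := fun y hy => av_mem θ hy
  have hNf1 : ∀ h ∈ N, h ∈ Nf S E (av θ) := by
    intro h hh
    have hq := hcon x hxE h hh
    have hzq : ⁅n₀, x ^ a⁆ ∈ F₄ := hcon _ hxa.1 n₀ hn₀N
    obtain ⟨i, hi⟩ := hpowE (hc.leE hzq) (av θ ⁅h, x⁆) (hgen4 _ hzq (hne _ hxa.1 hxa.2) ▸ (by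
      obtain ⟨j, hj⟩ := hpowE hzE _ (hgen4 z hz4 hz1 ▸ hq)
      rw [← hj, Tower.map_pow hθm hzE, hθz]
      exact F₄.pow_mem (F₄.pow_mem hz4 b) j))
    have hs : n₀ ^ i ∈ S := S.pow_mem hn₀S i
    refine ⟨hNS hh, hNn hh, n₀ ^ i, hs, fun y hy => ?_⟩
    obtain ⟨j, l, hy'⟩ := hspan ⟨y, hy⟩
    have hy'' : y = z ^ j * x ^ l := congrArg Subtype.val hy'
    have hc1 : av θ (h * z * h⁻¹) = n₀ ^ i * av θ z * (n₀ ^ i)⁻¹ := by
      rw [hc.central z hz4 h (hNS hh), mul_inv_cancel_right, hθz, hc.central _ (F₄.pow_mem hz4 b) _ hs,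
        mul_inv_cancel_right]
    have hc2 : av θ (h * x * h⁻¹) = n₀ ^ i * av θ x * (n₀ ^ i)⁻¹ := by
      rw [show h * x * h⁻¹ = ⁅h, x⁆ * x by rw [commutatorElement_def]; group, hθm.map_mul (hc.leE hq) hxE, hθx,
        ← hi, ← hpow i _ hxa.1, commutatorElement_def]
      group
    have hzh : h * z * h⁻¹ ∈ E := conj_mem_of_normalizer (hNn hh) hzE
    have hxh : h * x * h⁻¹ ∈ E := conj_mem_of_normalizer (hNn hh) hxE
    rw [hy'', show h * (z ^ j * x ^ l) * h⁻¹ = (h * z * h⁻¹) ^ j * (h * x * h⁻¹) ^ l by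
        rw [conj_pow, conj_pow]; group,
      hθm.map_mul (E.pow_mem hzh j) (E.pow_mem hxh l), Tower.map_pow hθm hzh, Tower.map_pow hθm hxh, hc1, hc2,
      hθm.map_mul (E.pow_mem hzE j) (E.pow_mem hxE l), Tower.map_pow hθm hzE, Tower.map_pow hθm hxE, conj_pow,
      conj_pow]
    group
  have hiE : im E (av θ) = E := im_av θ
  obtain ⟨f, hf, hfθ⟩ := (receptive_iff.1 (receptive_of_fc hS hF (fc_of_centric hE.1))).2 E (av θ) hθm hiE
  have hfN : Map F N f := hf.restrict hNf1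
  have hfm : ∀ y ∈ N, f y ∈ N := by
    intro y hy
    refine hN ▸ ⟨hfN.mem hy, mem_normalizer_of_conj_mem hES fun w hw => ?_⟩
    obtain ⟨u, hu, rfl⟩ := hθm.mem_im.1 (hiE.ge hw)
    rw [← hfθ u hu, ← hfN.map_conj hy (hEN hu), hfθ _ (conj_mem_of_normalizer (hNn hy) hu)]
    exact hθmem _ (conj_mem_of_normalizer (hNn hy) hu)
  have hfx : f x = x ^ a := (hfθ x hxE).trans hθx
  have hfz : f z = z ^ b := (hfθ z hzE).trans hθz
  have hf4 : ∀ y ∈ F₄, f y ∈ F₄ := fun y hy => by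
    obtain ⟨j, rfl⟩ := hpowE hzE _ (hgen4 z hz4 hz1 ▸ hy)
    rw [Tower.map_pow hfN (hEN hzE), hfz]
    exact F₄.pow_mem (F₄.pow_mem hz4 b) j
  -- the structure of `N`
  have hNc : Nat.card N = p ^ 3 := by
    refine le_antisymm ?_ ?_
    · haveI := finite_of_le hNS
      obtain ⟨χ, hχ, hχ0, -⟩ := exists_char hS h4S (bot_le : (⊥ : Subgroup Ω) ≤ F₄)
        (fun y _ => Subgroup.mem_normalizer_iff.2 fun w => by simp [Subgroup.mem_bot])
        (by rw [hc.c4, Subgroup.card_bot, one_mul]) hz4 (by rw [Subgroup.mem_bot]; exact hz1)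
      let φ : N →* Multiplicative (ZMod p) := MonoidHom.mk' (fun n => Multiplicative.ofAdd (χ ⁅(n : Ω), x⁆))
        fun u v => by
          show Multiplicative.ofAdd (χ ⁅(u : Ω) * v, x⁆) = _
          rw [char_comm_left hχ (hcon x hxE u u.2) (hcon x hxE v v.2) (fun y hy => by
            rw [hc.central y hy _ (hNS u.2), mul_inv_cancel_right]; exact ⟨hy, rfl⟩)]
          rfl
      have hker : φ.ker ≤ E.subgroupOf N := fun n hn => by
        have h1 := (hχ0 _ (hcon x hxE n n.2)).1 (Multiplicative.ofAdd.injective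
          ((MonoidHom.mem_ker.1 hn).trans ofAdd_zero.symm))
        exact Subgroup.mem_subgroupOf.2 (hc.cent_elt hxE hγz (hNS n.2)
          (commutatorElement_eq_one_iff_mul_comm.1 (Subgroup.mem_bot.1 h1)))
      have h1 := φ.ker.card_mul_index
      rw [Subgroup.index_ker] at h1
      have h2 := Subgroup.card_le_of_le hker
      rw [Nat.card_congr (Subgroup.subgroupOfEquivOfLe hEN).toEquiv, hc.cE] at h2
      have h3 : Nat.card φ.range ≤ p := (Nat.card_le_card_of_injective _ Subtype.val_injective).trans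
        (by rw [Nat.card_congr Multiplicative.toAdd, Nat.card_zmod])
      rw [← h1, pow_succ p 2]
      exact Nat.mul_le_mul h2 h3
    · have h1 := step_le hS hNS (lt_of_le_of_ne hEN fun he => hn₀E (he ▸ hn₀N))
      rwa [hc.cE, ← pow_succ] at h1
  have hx3 : x ∉ F₃ := fun h => hγz (hc.infE x hxE (hc.le32 h))
  obtain ⟨ε, hε, hε0, hεx⟩ := exists_char hS hNS h3N (hNS.trans n3) (by rw [hNc, hc.c3, ← pow_succ]) (hEN hxE) hx3
  have hN2 : ∀ y ∈ N, y ∈ F₂ → y ∈ F₃ := fun y hy hy2 => by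
    refine (hε0 y hy).1 ?_
    by_contra h0
    have h1 := dec hε hε0 (hEN hxE) hεx y hy
    obtain ⟨w, hw⟩ : ∃ w, w = y * (x ^ (ε y).val)⁻¹ := ⟨_, rfl⟩
    rw [← hw] at h1
    have h2 : x ^ (ε y).val ∈ F₂ := by
      rw [show x ^ (ε y).val = w⁻¹ * y by rw [hw]; group]
      exact F₂.mul_mem (F₂.inv_mem (hc.le32 h1)) hy2
    have h4 := hc.infE _ (E.pow_mem hxE _) h2
    have h5 : ¬ p ∣ (ε y).val := fun hd => h0 (by
      rw [← ZMod.natCast_zmod_val (ε y)]; exact (ZMod.natCast_eq_zero_iff _ _).2 hd)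
    obtain ⟨i, -, hi⟩ := Nat.exists_mul_mod_eq_one_of_coprime
      ((hp.out.coprime_iff_not_dvd.2 h5).symm) hp.out.one_lt
    have h6 := F₄.pow_mem h4 i
    rw [← pow_mul, pow_eq_pow_mod _ (hc.expE x hxE), hi, pow_one] at h6
    exact hγz h6
  -- `f` preserves `F₃`
  have hf3 : ∀ w ∈ F₃, f w ∈ F₃ := by
    intro w hw
    by_contra hfw
    have hw0 : ε (f w) ≠ 0 := fun h0 => hfw ((hε0 _ (hfm w (h3N hw))).1 h0)
    obtain ⟨e, hed⟩ : ∃ e : ℕ, (e : ZMod p) = -(a : ZMod p) * (ε (f w))⁻¹ := ⟨_, ZMod.natCast_zmod_val _⟩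
    obtain ⟨g, hg, hgu⟩ := hc.onto hxE hγz (w ^ e) (F₃.pow_mem hw e)
    have hgS := hc.leS hg
    have hgx : g * x * g⁻¹ = w ^ e * x := by rw [← hgu, commutatorElement_def]; group
    have hgE : ∀ y ∈ E, g * y * g⁻¹ ∈ N := fun y hy => by
      rw [show g * y * g⁻¹ = ⁅g, y⁆ * y by rw [commutatorElement_def]; group]
      exact N.mul_mem (h3N (hcm (hc.drop2 y (hES hy) g hg))) (hEN hy)
    have hh : Map F E (f ∘ fun y => g * y * g⁻¹) := (map_conjBy hES hgS).comp hfN hgE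
    have hfgx : f (g * x * g⁻¹) ∈ F₃ := by
      refine (hε0 _ (hfm _ (hgE x hxE))).1 ?_
      rw [hgx, hfN.map_mul (h3N (F₃.pow_mem hw e)) (hEN hxE), Tower.map_pow hfN (h3N hw), hfx,
        hε _ (N.pow_mem (hfm w (h3N hw)) e) _ (N.pow_mem (hEN hxE) a), char_pow hε (hfm w (h3N hw)),
        char_pow hε (hEN hxE), hεx, hed, inv_mul_cancel_right₀ hw0, mul_one, neg_add_cancel]
    have hfgz : f (g * z * g⁻¹) ∈ F₃ := by
      rw [hc.central z hz4 g hgS, mul_inv_cancel_right]; exact hc.le43 (hf4 z hz4)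
    have him : im E (f ∘ fun y => g * y * g⁻¹) ≤ F₃ := by
      refine im_le_iff.2 fun y hy => ?_
      obtain ⟨j, l, hy'⟩ := hspan ⟨y, hy⟩
      have hy'' : y = z ^ j * x ^ l := congrArg Subtype.val hy'
      rw [hy'', hh.map_mul (E.pow_mem hzE j) (E.pow_mem hxE l), Tower.map_pow hh hzE, Tower.map_pow hh hxE]
      exact F₃.mul_mem (F₃.pow_mem hfgz j) (F₃.pow_mem hfgx l)
    have heq : im E (f ∘ fun y => g * y * g⁻¹) = F₃ :=
      eq_of_card h3S him (by rw [hh.card_im, hc.cE, hc.c3])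
    have h1 := hE.2.1.2 F₃ (isConj_iff.2 ⟨_, hh, heq⟩)
    rw [← hN, hNc, show normalizerIn S F₃ = S from le_antisymm inf_le_left (le_inf le_rfl n3), hc.cS,
      Nat.pow_le_pow_iff_right hp.out.one_lt] at h1
    omega
  -- the next normaliser
  obtain ⟨P, hP⟩ : ∃ P, P = normalizerIn S N := ⟨_, rfl⟩
  have hPS : P ≤ S := hP ▸ inf_le_left
  have hPn : P ≤ Subgroup.normalizer (N : Set Ω) := hP ▸ inf_le_right
  have hNP : N ≤ P := hP ▸ le_normalizerIn hNS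
  have hNdec := dec hε hε0 (hEN hxE) hεx
  have h2P : F₂ ≤ P := fun g hg => hP ▸ ⟨hc.leS hg, mem_normalizer_of_conj_mem hNS fun y hy => by
    rw [show g * y * g⁻¹ = ⁅g, y⁆ * y by rw [commutatorElement_def]; group]
    exact N.mul_mem (h3N (hcm (hc.drop2 y (hNS hy) g hg))) hy⟩
  have hx2 : x ∉ F₂ := fun h => hγz (hc.infE x hxE h)
  have hPc : Nat.card P = p ^ 4 := by
    refine le_antisymm ?_ ?_
    · have hlt : P < S := lt_of_le_of_ne hPS fun he => by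
        obtain ⟨s, hs, hsx⟩ := hc.move x hxE hγz
        refine hsx (hN2 _ ?_ (hc.drop1 s hs x hxS))
        rw [commutatorElement_def]
        exact N.mul_mem (conj_mem_of_normalizer (hPn (he.ge hs)) (hEN hxE)) (N.inv_mem (hEN hxE))
      have h1 := step_le hS le_rfl hlt
      rw [hc.cS, show 5 = 4 + 1 from rfl, pow_succ p 4] at h1
      exact Nat.le_of_mul_le_mul_right h1 hp.out.pos
    · have h1 := step_le hS hPS (lt_of_le_of_ne h2P fun he => hx2 (he ▸ hNP (hEN hxE)))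
      rwa [hc.c2, ← pow_succ] at h1
  have hNf2 : P ≤ Nf S N f := by
    obtain ⟨χ, hχ, hχ0, hχx⟩ := exists_char hS hPS h2P (hPS.trans n2) (by rw [hPc, hc.c2, ← pow_succ])
      (hNP (hEN hxE)) hx2
    have h2 : ∀ g ∈ F₂, g ∈ Nf S N f := by
      intro g hg
      have hgS := hc.leS hg
      have hu : ⁅g, x⁆ ∈ F₃ := hcm (hc.drop2 x hxS g hg)
      obtain ⟨s, hs, hsu⟩ := hc.onto hxa.1 hxa.2 (f ⁅g, x⁆) (hf3 _ hu)
      refine ⟨hgS, hPn (h2P hg), s, hc.leS hs, fun y hy => ?_⟩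
      have e1 : f (g * x * g⁻¹) = s * f x * s⁻¹ := by
        rw [show g * x * g⁻¹ = ⁅g, x⁆ * x by rw [commutatorElement_def]; group,
          hfN.map_mul (h3N hu) (hEN hxE), hfx, ← hsu, commutatorElement_def]
        group
      have e2 : ∀ w ∈ F₃, f (g * w * g⁻¹) = s * f w * s⁻¹ := fun w hw => by
        rw [hc.ab2 g hg w (hc.le32 hw), mul_inv_cancel_right, hc.ab2 s hs _ (hc.le32 (hf3 w hw)),
          mul_inv_cancel_right]
      obtain ⟨w, hw⟩ : ∃ w, w = y * (x ^ (ε y).val)⁻¹ := ⟨_, rfl⟩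
      have hw3 : w ∈ F₃ := hw ▸ hNdec y hy
      have hyw : y = w * x ^ (ε y).val := by rw [hw]; group
      have hgN : ∀ u ∈ N, g * u * g⁻¹ ∈ N := fun u hu => conj_mem_of_normalizer (hPn (h2P hg)) hu
      rw [hyw, show g * (w * x ^ (ε y).val) * g⁻¹ = (g * w * g⁻¹) * (g * x * g⁻¹) ^ (ε y).val by
          rw [conj_pow]; group,
        hfN.map_mul (hgN w (h3N hw3)) (N.pow_mem (hgN x (hEN hxE)) _), Tower.map_pow hfN (hgN x (hEN hxE)), e1,
        e2 w hw3, hfN.map_mul (h3N hw3) (N.pow_mem (hEN hxE) _), Tower.map_pow hfN (hEN hxE), conj_pow]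
      group
    intro y hy
    have h3 := dec hχ hχ0 (hNP (hEN hxE)) hχx y hy
    have := (Nf S N f).mul_mem (h2 _ h3) ((Nf S N f).pow_mem (le_Nf hfN (hEN hxE)) (χ y).val)
    rwa [inv_mul_cancel_right] at this
  have hNc' : F.IsCentric N := centric_mono hE.1 hEN hNS
  have hiN : im N f = N := eq_of_card hNS (im_le_iff.2 hfm) (by rw [hfN.card_im])
  obtain ⟨f₂, hf₂', hf₂e⟩ := (receptive_iff.1 (receptive_of_fc hS hF (fc_of_centric hNc'))).2 N f hfN hiN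
  have hf₂ := hf₂'.restrict hNf2
  have hf₂m : ∀ y ∈ P, f₂ y ∈ P := by
    intro y hy
    refine hP ▸ ⟨hf₂.mem hy, mem_normalizer_of_conj_mem hNS fun w hw => ?_⟩
    obtain ⟨u, hu, rfl⟩ := hfN.mem_im.1 (hiN.ge hw)
    rw [← hf₂e u hu, ← hf₂.map_conj hy (hNP hu), hf₂e _ (conj_mem_of_normalizer (hPn hy) hu)]
    exact hfm _ (conj_mem_of_normalizer (hPn hy) hu)
  obtain ⟨χ, hχ, hχ0, hχx⟩ := exists_char hS hPS h2P (hPS.trans n2) (by rw [hPc, hc.c2, ← pow_succ])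
    (hNP (hEN hxE)) hx2
  have hf₂2 : ∀ y ∈ F₂, f₂ y ∈ F₂ := by
    intro y hy
    have hyP := h2P hy
    have hn₀' : f n₀ ∈ F₃ := hf3 n₀ hn₀
    have hn₀'' : f n₀ ∉ F₄ := fun h => by
      have hi4 : im F₄ f = F₄ := eq_of_card h4S (im_le_iff.2 hf4)
        (by rw [(hfN.restrict (hc.le43.trans h3N)).card_im])
      obtain ⟨q, hq, hqe⟩ := (hfN.restrict (hc.le43.trans h3N)).mem_im.1 (hi4.ge h)
      exact hn₀4 (hfN.injOn (h3N (hc.le43 hq)) hn₀N hqe ▸ hq)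
    have hcm' : Commute (f₂ y) (f n₀) := by
      show f₂ y * f n₀ = f n₀ * f₂ y
      rw [← hf₂e n₀ hn₀N, ← hf₂.map_mul hyP (hNP hn₀N), ← hf₂.map_mul (hNP hn₀N) hyP,
        hc.ab2 y hy n₀ (hc.le32 hn₀)]
    obtain ⟨w, hw⟩ : ∃ w, w = f₂ y * (x ^ (χ (f₂ y)).val)⁻¹ := ⟨_, rfl⟩
    have hw2 : w ∈ F₂ := hw ▸ dec hχ hχ0 (hNP (hEN hxE)) hχx _ (hf₂m y hyP)
    refine (hχ0 _ (hf₂m y hyP)).1 ?_
    by_contra h0
    have hxi : Commute (x ^ (χ (f₂ y)).val) (f n₀) := by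
      have h1 : Commute (w⁻¹) (f n₀) := (show Commute w (f n₀) from hc.ab2 w hw2 _ (hc.le32 hn₀')).inv_left
      have := h1.mul_left hcm'
      rwa [hw, show (f₂ y * (x ^ (χ (f₂ y)).val)⁻¹)⁻¹ * f₂ y = x ^ (χ (f₂ y)).val by group] at this
    have h5 : ¬ p ∣ (χ (f₂ y)).val := fun hd => h0 (by
      rw [← ZMod.natCast_zmod_val (χ (f₂ y))]; exact (ZMod.natCast_eq_zero_iff _ _).2 hd)
    have hxi4 : x ^ (χ (f₂ y)).val ∉ F₄ := fun h => by
      obtain ⟨i, -, hi⟩ := Nat.exists_mul_mod_eq_one_of_coprime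
        ((hp.out.coprime_iff_not_dvd.2 h5).symm) hp.out.one_lt
      have h6 := F₄.pow_mem h i
      rw [← pow_mul, pow_eq_pow_mod _ (hc.expE x hxE), hi, pow_one] at h6
      exact hγz h6
    exact hn₀'' (hc.infE _ (hc.cent_elt (E.pow_mem hxE _) hxi4 (h3S hn₀') hxi.symm.eq) (hc.le32 hn₀'))
  -- the stabiliser of the chain
  haveI := mulAut_finite_of_le hPS
  haveI := finite_of_le hPS
  obtain ⟨C, hC⟩ : ∃ C : ℕ → Subgroup Ω, C = fun i => match i with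
      | 0 => ⊥ | 1 => F₄ | 2 => F₃ | 3 => F₂ | _ => P := ⟨_, rfl⟩
  have hC0 : C 0 = ⊥ := by rw [hC]; rfl
  have hC4 : P ≤ C 4 := by rw [hC]; exact le_rfl
  have hCle : ∀ i, C i ≤ P := fun i => by
    rw [hC]
    match i with
    | 0 => exact bot_le
    | 1 => exact (hc.le43.trans hc.le32).trans h2P
    | 2 => exact hc.le32.trans h2P
    | 3 => exact h2P
    | _ + 4 => exact le_rfl
  have hCmono : Monotone C := monotone_nat_of_le_succ fun i => by
    rw [hC]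
    match i with
    | 0 => exact bot_le
    | 1 => exact hc.le43
    | 2 => exact hc.le32
    | 3 => exact h2P
    | _ + 4 => exact le_rfl
  let K : Subgroup (MulAut P) :=
    { carrier := {α | α ∈ F.autGroup P ∧ ∀ i < 4, ∀ y ∈ P, y ∈ C (i + 1) → y⁻¹ * av α y ∈ C i}
      one_mem' := ⟨Subgroup.one_mem _, fun i _ y hy _ => by rw [av_one hy, inv_mul_cancel]; exact (C i).one_mem⟩
      mul_mem' := by
        rintro α β ⟨hα, hα'⟩ ⟨hβ, hβ'⟩
        refine ⟨Subgroup.mul_mem _ hα hβ, fun i hi y hy hyC => ?_⟩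
        have h1 := hβ' i hi y hy hyC
        have hy' : av β y ∈ C (i + 1) := by
          simpa using (C (i + 1)).mul_mem hyC (hCmono (Nat.le_succ i) h1)
        have := (C i).mul_mem h1 (hα' i hi _ (av_mem β hy) hy')
        rw [av_mul _ _ hy]
        simpa [mul_assoc] using this
      inv_mem' := by
        rintro α ⟨hα, hα'⟩
        refine ⟨Subgroup.inv_mem _ hα, fun i hi y hy hyC => ?_⟩
        have hinvpow : α⁻¹ = α ^ (orderOf α - 1) := by
          rw [inv_eq_iff_mul_eq_one, ← pow_succ', Nat.sub_add_cancel (orderOf_pos α), pow_orderOf_eq_one]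
        rw [hinvpow]
        generalize orderOf α - 1 = j
        induction j generalizing y with
        | zero => rw [pow_zero, av_one hy, inv_mul_cancel]; exact (C i).one_mem
        | succ j ihj =>
          have h1 := hα' i hi y hy hyC
          have hy' : av α y ∈ C (i + 1) := by
            simpa using (C (i + 1)).mul_mem hyC (hCmono (Nat.le_succ i) h1)
          have := (C i).mul_mem h1 (ihj _ (av_mem α hy) hy')
          rw [pow_succ, av_mul _ _ hy]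
          simpa [mul_assoc] using this }
  have hKp : IsPGroup p K := fun ⟨α, hα⟩ => by
    obtain ⟨j, hj⟩ := exists_pow_eq_one_of_stabilizes (hS.to_le hPS) (α := α) C 4 hC0 hC4 hCmono
      fun i hi y hy hyC => hα.2 i hi y hy hyC
    exact ⟨j, Subtype.ext hj⟩
  have hconj : ∀ g ∈ S, ∀ i < 4, ∀ y ∈ P, y ∈ C (i + 1) → ⁅g, y⁆ ∈ C i := by
    intro g hg i hi y hy hyC
    rw [hC] at hyC ⊢
    match i, hi with
    | 0, _ =>
      exact Subgroup.mem_bot.2 (commutatorElement_eq_one_iff_mul_comm.2 (hc.central y hyC g hg))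
    | 1, _ => exact hc.drop3 g hg y hyC
    | 2, _ => exact hc.drop2 g hg y hyC
    | 3, _ => exact hc.drop1 g hg y (hPS hy)
  have hPnS : S ≤ Subgroup.normalizer (P : Set Ω) := nrm P hPS fun s hs y hy => h2P (hc.drop1 s hs y (hPS hy))
  have hcmem : ∀ g ∈ S, ∀ i < 4, ∀ y ∈ P, y ∈ C (i + 1) → y⁻¹ * (g * y * g⁻¹) ∈ C i := by
    intro g hg i hi y hy hyC
    rw [show y⁻¹ * (g * y * g⁻¹) = y⁻¹ * ⁅g, y⁆ * y by rw [commutatorElement_def]; group]
    have h1 := hconj g hg i hi y hy hyC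
    have h2 : ⁅y⁻¹, ⁅g, y⁆⁆ ∈ C i := by
      have h3 := hconj y⁻¹ (S.inv_mem (hPS hy)) i hi _ (hCle i h1) (hCmono (Nat.le_succ i) h1)
      exact h3
    rw [show y⁻¹ * ⁅g, y⁆ * y = ⁅y⁻¹, ⁅g, y⁆⁆ * ⁅g, y⁆ by simp only [commutatorElement_def]; group]
    exact (C i).mul_mem h2 h1
  have hiP : im P f₂ = P := eq_of_card hPS (im_le_iff.2 hf₂m) (by rw [hf₂.card_im])
  obtain ⟨α, hα, hαf⟩ := exists_aut hf₂ hiP
  have hαC : ∀ i ≤ 4, ∀ y ∈ C i, av α y ∈ C i := by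
    intro i hi y hy
    rw [hαf y (hCle i hy)]
    rw [hC] at hy ⊢
    match i, hi with
    | 0, _ =>
      replace hy : y = 1 := Subgroup.mem_bot.1 hy
      exact Subgroup.mem_bot.2 (hy ▸ hf₂.map_one)
    | 1, _ => rw [hf₂e y (h3N (hc.le43 hy))]; exact hf4 y hy
    | 2, _ => rw [hf₂e y (h3N hy)]; exact hf3 y hy
    | 3, _ => exact hf₂2 y hy
    | 4, _ => exact hf₂m y hy
  have hαC' : ∀ i ≤ 4, ∀ y ∈ C i, av α⁻¹ y ∈ C i := by
    intro i hi y hy
    have hr := (map_of_mem_autGroup hPS hα).restrict (hCle i)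
    obtain ⟨u, hu, rfl⟩ := hr.surj_of_card_le ((hCle i).trans hPS) (hαC i hi) le_rfl y hy
    rw [av_inv_av α (hCle i hu)]; exact hu
  have hPfn : F.IsFullyNormalized P := fn_of_normalized hPS (le_antisymm inf_le_left (le_inf le_rfl hPnS))
  obtain ⟨-, hsyl⟩ := fa_iff.1 (fc_fa_of_fn hS hF hPfn).2
  have hTK : autInducedBy S P ≤ K := by
    intro δ hδ
    obtain ⟨g, hg, hgδ⟩ := mem_autInducedBy.1 hδ
    refine ⟨autInducedBy_le_autGroup hPS hδ, fun i hi y hy hyC => ?_⟩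
    rw [hgδ y hy]
    exact hcmem g hg i hi y hy hyC
  have hKeq := hsyl.eq_of_le hKp hTK fun δ hδ => hδ.1
  have hNf3 : ∀ g ∈ S, g ∈ Nf S P f₂ := by
    intro g hg
    obtain ⟨δ, hδ, hδS⟩ := exists_aut_conj (hPnS hg)
    have hm := map_of_mem_autGroup hPS hα
    have hK' : α * δ * α⁻¹ ∈ K := by
      refine ⟨(F.autGroup P).mul_mem ((F.autGroup P).mul_mem hα (autInducedBy_le_autGroup hPS (hδS S hg)))
        ((F.autGroup P).inv_mem hα), fun i hi y hy hyC => ?_⟩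
      have hw := av_mem α⁻¹ hy
      have h1 := hcmem g hg i hi _ hw (hαC' (i + 1) (by omega) y hyC)
      have h2 := hαC i (by omega) _ h1
      rw [hm.map_mul (P.inv_mem hw) (conj_mem_of_normalizer (hPnS hg) hw), hm.map_inv hw, av_av_inv α hy] at h2
      rw [av_mul _ _ hy, av_mul _ _ hw, hδ _ hw]
      exact h2
    obtain ⟨s, hs, hsx⟩ := mem_autInducedBy.1 (hKeq.le hK')
    refine ⟨hg, hPnS hg, s, hs, fun y hy => ?_⟩
    have h1 := hsx _ (av_mem α hy)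
    rw [av_mul _ _ (av_mem α hy), av_inv_av α hy, av_mul _ _ hy, hδ y hy, hαf y hy,
      hαf _ (conj_mem_of_normalizer (hPnS hg) hy)] at h1
    exact h1
  have hPc' : F.IsCentric P := centric_mono hNc' hNP hPS
  obtain ⟨f₃, hf₃', hf₃e⟩ := (receptive_iff.1 (receptive_of_fc hS hF (fc_of_centric hPc'))).2 P f₂ hf₂ hiP
  have hf₃ : Map F S f₃ := hf₃'.restrict hNf3
  have hi3 : im S f₃ = S := eq_of_card le_rfl hf₃.im_le (by rw [hf₃.card_im])
  obtain ⟨δ, hδ, hδf⟩ := exists_aut hf₃ hi3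
  refine ⟨x, hxE, hγz, z, hz4, hz1, δ, hδ, ?_, ?_⟩
  · rw [hδf x hxS, hf₃e x (hNP (hEN hxE)), hf₂e x (hEN hxE), hfx]
  · rw [hδf z (h4S hz4), hf₃e z (hNP (hEN hzE)), hf₂e z (hEN hzE), hfz]

end Cfsg.Agent.Local.FS.Fifth
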