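import Cfsg.Agent.Lib.Local.FS.OrderFifth.Cube
import Cfsg.Agent.Lib.Solv.MaxTwoStep
import Cfsg.Agent.Lib.Solv.MaxCenter
import Cfsg.Agent.Lib.Solv.MaxRankThree

/-!
Groups of maximal class of order `p⁵` with a self-centralising subgroup of order `p²` and exponent `p`
and without abelian maximal subgroups: how automorphisms act on the layers.
-/

set_option autoImplicit false

open scoped commutatorElement

namespace Cfsg.Agent.Local.FS.Fifth

open Cfsg Cfsg.Agent.Solv.MaxC Cfsg.Agent.Solv.PolySeq Tower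

variable {G : Type*} [Group G] [Finite G] {p : ℕ} [hp : Fact p.Prime]

/-- The situation: `G` of maximal class of order `p⁵`, `E` a self-centralising `p × p`. -/
structure PearlIn (G : Type*) [Group G] (p : ℕ) (E : Subgroup G) : Prop where
  max : IsMax G p 5
  cardE : Nat.card E = p ^ 2
  self : ∀ c : G, (∀ y ∈ E, y * c = c * y) → c ∈ E
  exp : ∀ y ∈ E, y ^ p = 1
  nonab : ∀ A : Subgroup G, Nat.card A = p ^ 4 → ¬ ∀ a ∈ A, ∀ b ∈ A, a * b = b * a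

variable {E : Subgroup G}

theorem PearlIn.card_F (h : PearlIn G p E) : Nat.card (F G 2) = p ^ 3 ∧ Nat.card (F G 3) = p ^ 2 ∧
    Nat.card (F G 4) = p :=
  ⟨h.max.F_card le_rfl (by norm_num), h.max.F_card (by norm_num) (by norm_num),
    (h.max.F_card (by norm_num) (by norm_num)).trans (pow_one p)⟩

theorem drop_mem {a : ℕ} (g : G) {y : G} (hy : y ∈ F G a) : ⁅g, y⁆ ∈ F G (a + 1) := by
  have := F_commutator (show g ∈ F G 1 from Subgroup.mem_top g) hy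
  rwa [Nat.add_comm 1 a] at this

theorem drop_mem' {a : ℕ} (g : G) {y : G} (hy : y ∈ F G a) : ⁅y, g⁆ ∈ F G (a + 1) := by
  rw [← commutatorElement_inv]; exact inv_mem (drop_mem g hy)

theorem F_step_le_normalizer (a b : ℕ) : F G a ≤ Subgroup.normalizer (F G b : Set G) := fun g _ =>
  Subgroup.mem_normalizer_iff.2 fun y => ⟨fun hy => (F_normal _).conj_mem y hy g, fun hy => by
    simpa [mul_assoc] using (F_normal _).conj_mem _ hy g⁻¹⟩

theorem PearlIn.central (h : PearlIn G p E) {z : G} (hz : z ∈ F G 4) (g : G) : g * z = z * g := by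
  have hc : z ∈ Subgroup.center G := by rw [h.max.center_eq (by norm_num)]; exact hz
  exact Subgroup.mem_center_iff.1 hc g

theorem PearlIn.five (h : PearlIn G p E) {z : G} (hz : z ∈ F G 5) : z = 1 := by
  rwa [h.max.F_bot le_rfl, Subgroup.mem_bot] at hz

theorem PearlIn.F4_le (h : PearlIn G p E) : F G 4 ≤ E := fun z hz => h.self z fun y _ => h.central hz y

theorem PearlIn.F2_comm (h : PearlIn G p E) : ∀ a ∈ F G 2, ∀ b ∈ F G 2, a * b = b * a := by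
  obtain ⟨a₂, ha₂, ha₂'⟩ := SetLike.exists_of_lt (h.max.F_lt (k := 2) le_rfl (by norm_num))
  have hgen : F G 2 = Subgroup.zpowers a₂ ⊔ F G 3 := h.max.F_gen le_rfl ha₂ ha₂'
  have h5 : ∀ u ∈ F G 2, ∀ w ∈ F G 3, u * w = w * u := fun u hu w hw =>
    commutatorElement_eq_one_iff_mul_comm.1 (h.five (F_commutator hu hw))
  have h1 : ∀ b ∈ F G 2, a₂ * b = b * a₂ := by
    have hle : F G 2 ≤ Subgroup.centralizer ({a₂} : Set G) := hgen.le.trans (sup_le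
      (Subgroup.zpowers_le.2 (Subgroup.mem_centralizer_singleton_iff.2 rfl))
      fun w hw => Subgroup.mem_centralizer_singleton_iff.2 (h5 a₂ ha₂ w hw).symm)
    exact fun b hb => (Subgroup.mem_centralizer_singleton_iff.1 (hle hb)).symm
  intro a ha b hb
  have hle : F G 2 ≤ Subgroup.centralizer ({b} : Set G) := hgen.le.trans (sup_le
    (Subgroup.zpowers_le.2 (Subgroup.mem_centralizer_singleton_iff.2 (h1 b hb)))
    fun w hw => Subgroup.mem_centralizer_singleton_iff.2 (h5 b hb w hw).symm)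
  exact Subgroup.mem_centralizer_singleton_iff.1 (hle ha)

theorem PearlIn.not_le_F2 (h : PearlIn G p E) : ¬ E ≤ F G 2 := fun hE => by
  have hle : F G 2 ≤ E := fun c hc => h.self c fun y hy => h.F2_comm y (hE hy) c hc
  have := Subgroup.card_le_of_le hle
  rw [h.card_F.1, h.cardE, Nat.pow_le_pow_iff_right hp.out.one_lt] at this
  omega

theorem PearlIn.cent_elt (h : PearlIn G p E) {x : G} (hx : x ∈ E) (hx4 : x ∉ F G 4) {c : G}
    (hc : c * x = x * c) : c ∈ E := by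
  have hgen : Subgroup.zpowers x ⊔ F G 4 = E := by
    refine Subgroup.eq_of_le_of_card_ge (sup_le (Subgroup.zpowers_le.2 hx) h.F4_le) ?_
    have h1 := p_mul_card_le_of_lt h.max.isPGroup (lt_of_le_of_ne
      (le_sup_right : F G 4 ≤ Subgroup.zpowers x ⊔ F G 4)
      fun he => hx4 (he ▸ Subgroup.mem_sup_left (Subgroup.mem_zpowers x)))
    rw [h.card_F.2.2, ← sq] at h1
    rw [h.cardE]; exact h1
  refine h.self c fun y hy => ?_
  have hle : E ≤ Subgroup.centralizer ({c} : Set G) := hgen ▸ sup_le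
    (Subgroup.zpowers_le.2 (Subgroup.mem_centralizer_singleton_iff.2 hc.symm))
    fun w hw => Subgroup.mem_centralizer_singleton_iff.2 (h.central hw c).symm
  exact Subgroup.mem_centralizer_singleton_iff.1 (hle hy)

theorem PearlIn.inf_F2 (h : PearlIn G p E) : E ⊓ F G 2 = F G 4 := by
  refine (Subgroup.eq_of_le_of_card_ge (le_inf h.F4_le (F_antitone (by norm_num))) ?_).symm
  have h1 := p_mul_card_le_of_lt h.max.isPGroup (lt_of_le_of_ne (inf_le_left : E ⊓ F G 2 ≤ E)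
    fun he => h.not_le_F2 (he ▸ inf_le_right))
  rw [h.cardE, sq] at h1
  rw [h.card_F.2.2]
  exact Nat.le_of_mul_le_mul_left h1 hp.out.pos

theorem PearlIn.not_mem_F2 (h : PearlIn G p E) {x : G} (hx : x ∈ E) (hx4 : x ∉ F G 4) : x ∉ F G 2 :=
  fun hx2 => hx4 (h.inf_F2 ▸ (⟨hx, hx2⟩ : x ∈ E ⊓ F G 2))

/-- Coordinates on the layers. -/
structure Coords (G : Type*) [Group G] (p : ℕ) (x s₁ : G) (A B χ₂ χ₃ χ₄ : G → ZMod p) (j : ZMod p) : Prop where
  A_add : ∀ u v, A (u * v) = A u + A v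
  A_zero : ∀ u, A u = 0 ↔ u ∈ twoStep G 2
  A_x : A x = 1
  B_add : ∀ u ∈ twoStep G 2, ∀ v ∈ twoStep G 2, B (u * v) = B u + B v
  B_zero : ∀ u ∈ twoStep G 2, B u = 0 ↔ u ∈ F G 2
  s₁_mem : s₁ ∈ twoStep G 2
  B_s₁ : B s₁ = 1
  c2_zero : ∀ u ∈ F G 2, χ₂ u = 0 ↔ u ∈ F G 3
  c3_zero : ∀ u ∈ F G 3, χ₃ u = 0 ↔ u ∈ F G 4
  c4_zero : ∀ u ∈ F G 4, χ₄ u = 0 ↔ u = 1
  c4_add : ∀ u ∈ F G 4, ∀ v ∈ F G 4, χ₄ (u * v) = χ₄ u + χ₄ v
  P2 : ∀ s ∈ twoStep G 2, ∀ y, χ₂ ⁅s, y⁆ = B s * A y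
  P3 : ∀ u ∈ F G 2, ∀ y, χ₃ ⁅u, y⁆ = χ₂ u * A y
  P4 : ∀ u ∈ F G 3, ∀ y, χ₄ ⁅u, y⁆ = χ₃ u * A y
  Q4 : ∀ s ∈ twoStep G 2, ∀ u ∈ F G 2, χ₄ ⁅s, u⁆ = B s * χ₂ u * j
  j_ne : j ≠ 0

/-- Existence of the coordinates. -/
theorem PearlIn.exists_coords (h : PearlIn G p E) {x : G} (hx : x ∈ E) (hx4 : x ∉ F G 4) :
    ∃ (s₁ : G) (A B χ₂ χ₃ χ₄ : G → ZMod p) (j : ZMod p), Coords G p x s₁ A B χ₂ χ₃ χ₄ j := by
  have hG : IsPGroup p (⊤ : Subgroup G) := h.max.isPGroup.to_subgroup ⊤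
  obtain ⟨c2, c3, c4⟩ := h.card_F
  have hx2 := h.not_mem_F2 hx hx4
  obtain ⟨S₁, hS₁⟩ : ∃ S₁, S₁ = twoStep G 2 := ⟨_, rfl⟩
  haveI hS₁n : S₁.Normal := hS₁ ▸ twoStep_normal 2
  have hF2S : F G 2 ≤ S₁ := hS₁ ▸ F_two_le_twoStep 2
  have h32 : F G 3 ≤ F G 2 := F_antitone (by norm_num)
  have h43 : F G 4 ≤ F G 3 := F_antitone (by norm_num)
  -- `x` moves the layers
  have hx3 : ∀ u ∈ F G 3, u ∉ F G 4 → ⁅u, x⁆ ≠ 1 := fun u hu hu4 h1 =>
    hu4 (h.inf_F2 ▸ (⟨h.cent_elt hx hx4 (commutatorElement_eq_one_iff_mul_comm.1 h1), h32 hu⟩ : u ∈ E ⊓ F G 2))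
  have hxS : x ∉ S₁ := by
    intro hxS
    rw [hS₁, mem_twoStep] at hxS
    obtain ⟨a₃, ha₃, ha₃'⟩ := SetLike.exists_of_lt (h.max.F_lt (k := 3) (by norm_num) (by norm_num))
    obtain ⟨a₂, ha₂, ha₂'⟩ := SetLike.exists_of_lt (h.max.F_lt (k := 2) le_rfl (by norm_num))
    obtain ⟨χ, hχ, hχ0, hχv⟩ := exists_char hG (le_top : F G 4 ≤ ⊤) (bot_le : (⊥ : Subgroup G) ≤ F G 4)
      (fun g _ => Subgroup.mem_normalizer_iff.2 fun y => by simp [Subgroup.mem_bot])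
      (by rw [c4, Subgroup.card_bot, one_mul]) (drop_mem' x ha₃)
      (by rw [Subgroup.mem_bot]; exact hx3 a₃ ha₃ ha₃')
    have hm2 : ⁅a₂, x⁆ ∈ F G 4 := by rw [← commutatorElement_inv]; exact inv_mem (hxS a₂ ha₂)
    obtain ⟨m, hm⟩ : ∃ m : ℕ, (m : ZMod p) = -χ ⁅a₂, x⁆ := ⟨_, ZMod.natCast_zmod_val _⟩
    have hy : ⁅a₂ * a₃ ^ m, x⁆ = 1 := by
      have hpow : ∀ n : ℕ, ⁅a₃ ^ n, x⁆ = ⁅a₃, x⁆ ^ n := by
        intro n
        induction n with
        | zero => simp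
        | succ n ih =>
          rw [pow_succ a₃, commutator_conj_left, h.central (drop_mem' x ha₃) (a₃ ^ n), mul_inv_cancel_right, ih,
            pow_succ']
      have hv : ⁅a₃, x⁆ ∈ F G 4 := drop_mem' x ha₃
      rw [commutator_conj_left, hpow, h.central (pow_mem hv m) a₂, mul_inv_cancel_right]
      have h1 := mul_mem (pow_mem hv m) hm2
      refine Subgroup.mem_bot.1 ((hχ0 _ h1).1 ?_)
      rw [hχ _ (pow_mem hv m) _ hm2, char_pow hχ hv, hχv, mul_one, hm, neg_add_cancel]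
    have hyE : a₂ * a₃ ^ m ∈ E ⊓ F G 2 :=
      ⟨h.cent_elt hx hx4 (commutatorElement_eq_one_iff_mul_comm.1 hy),
        mul_mem ha₂ (h32 (pow_mem ha₃ m))⟩
    rw [h.inf_F2] at hyE
    have h2 := mul_mem (h43 hyE) (inv_mem (pow_mem ha₃ m))
    rw [mul_inv_cancel_right] at h2
    exact ha₂' h2
  obtain ⟨a₂, ha₂, ha₂'⟩ := SetLike.exists_of_lt (h.max.F_lt (k := 2) le_rfl (by norm_num))
  -- `twoStep` has index `p`
  have hS₁c : Nat.card S₁ = p ^ 4 := by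
    obtain ⟨χ, hχ, hχ0, -⟩ := exists_char hG (le_top : F G 3 ≤ ⊤) h43 (F_step_le_normalizer 3 4)
      (by rw [c3, c4, sq]) (h.max.comm_not_mem le_rfl (hS₁ ▸ hxS) ha₂ ha₂').1
      (h.max.comm_not_mem le_rfl (hS₁ ▸ hxS) ha₂ ha₂').2
    have hm : ∀ g, ⁅g, a₂⁆ ∈ F G 3 := fun g => drop_mem g ha₂
    have hinv : ∀ a, ∀ y ∈ F G 3, a * y * a⁻¹ ∈ F G 3 ∧ χ (a * y * a⁻¹) = χ y := fun a y hy => by
      refine ⟨(F_normal _).conj_mem y hy a, ?_⟩
      rw [show a * y * a⁻¹ = ⁅a, y⁆ * y by rw [commutatorElement_def]; group,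
        hχ _ (h43 (drop_mem a hy)) y hy, (hχ0 _ (h43 (drop_mem a hy))).2 (drop_mem a hy), zero_add]
    let φ : G →* Multiplicative (ZMod p) := MonoidHom.mk' (fun g => Multiplicative.ofAdd (χ ⁅g, a₂⁆))
      fun a b => by
        show Multiplicative.ofAdd (χ ⁅a * b, a₂⁆) = _
        rw [char_comm_left hχ (hm a) (hm b) (hinv a)]; rfl
    have hker : φ.ker = S₁ := by
      ext g
      rw [MonoidHom.mem_ker, hS₁]
      refine (Multiplicative.ofAdd.injective.eq_iff' rfl).trans ⟨fun h1 => ?_, fun h1 => ?_⟩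
      · exact h.max.mem_twoStep_of le_rfl ha₂ ha₂' ((hχ0 _ (hm g)).1 h1)
      · exact (hχ0 _ (hm g)).2 (h1 a₂ ha₂)
    have h1 := φ.ker.card_mul_index
    rw [Subgroup.index_ker, hker, h.max.card] at h1
    refine le_antisymm ?_ ?_
    · have h2 := p_mul_card_le_of_lt h.max.isPGroup (lt_top_iff_ne_top.2 fun he => hxS (he ▸ Subgroup.mem_top x) : S₁ < ⊤)
      rw [Subgroup.card_top, h.max.card, show 5 = 4 + 1 from rfl, pow_succ' p 4] at h2
      exact Nat.le_of_mul_le_mul_left h2 hp.out.pos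
    · refine Nat.le_of_mul_le_mul_right ?_ hp.out.pos
      rw [← pow_succ, show 4 + 1 = 5 from rfl, ← h1]
      refine Nat.mul_le_mul_left _ ?_
      refine (Nat.card_le_card_of_injective _ Subtype.val_injective).trans ?_
      rw [Nat.card_congr Multiplicative.toAdd, Nat.card_zmod]
  have hlt : F G 2 < S₁ := lt_of_le_of_ne hF2S fun he => by
    rw [← he, c2] at hS₁c
    exact absurd (Nat.pow_right_injective hp.out.two_le hS₁c) (by norm_num)
  obtain ⟨s, hs, hs2⟩ := SetLike.exists_of_lt hlt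
  have htopn : (⊤ : Subgroup G) ≤ Subgroup.normalizer (S₁ : Set G) := by
    rw [Subgroup.normalizer_eq_top]
  obtain ⟨A, hA, hA0, hAx⟩ := exists_char hG (le_rfl : (⊤ : Subgroup G) ≤ ⊤) (le_top : S₁ ≤ ⊤) htopn
    (by rw [Subgroup.card_top, h.max.card, hS₁c, ← pow_succ]) (Subgroup.mem_top x) hxS
  obtain ⟨B, hB, hB0, hBs⟩ := exists_char hG (le_top : S₁ ≤ ⊤) hF2S
    (fun g hg => F_step_le_normalizer 1 2 (Subgroup.mem_top g)) (by rw [hS₁c, c2, ← pow_succ]) hs hs2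
  have hA' : ∀ u v, A (u * v) = A u + A v := fun u v => hA u (Subgroup.mem_top u) v (Subgroup.mem_top v)
  have hA0' : ∀ u, A u = 0 ↔ u ∈ S₁ := fun u => hA0 u (Subgroup.mem_top u)
  -- the elements in the layers
  obtain ⟨v₀, hv₀⟩ : ∃ v, v = ⁅s, x⁆ := ⟨_, rfl⟩
  have hsx : s ∉ Subgroup.zpowers x ⊔ F G 2 := by
    intro hsx
    have hcx := h.max.zpowers_sup_card (by norm_num) hx2
    have hle : Subgroup.zpowers s ⊔ F G 2 ≤ Subgroup.zpowers x ⊔ F G 2 :=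
      sup_le (Subgroup.zpowers_le.2 hsx) le_sup_right
    have hcs := h.max.zpowers_sup_card (by norm_num) hs2
    have he := Subgroup.eq_of_le_of_card_ge hle (hcx.trans hcs.symm).le
    have hle' : Subgroup.zpowers s ⊔ F G 2 ≤ S₁ := sup_le (Subgroup.zpowers_le.2 hs) hF2S
    exact hxS (hle' (he ▸ Subgroup.mem_sup_left (Subgroup.mem_zpowers x)))
  have hv₀2 : v₀ ∈ F G 2 ∧ v₀ ∉ F G 3 := by
    have h1 := h.max.comm_gen (by norm_num) hx2 hsx
    rw [hv₀, ← commutatorElement_inv, Subgroup.inv_mem_iff, Subgroup.inv_mem_iff]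
    exact h1
  obtain ⟨v₁, hv₁⟩ : ∃ v, v = ⁅v₀, x⁆ := ⟨_, rfl⟩
  have hv₁3 : v₁ ∈ F G 3 ∧ v₁ ∉ F G 4 := by
    rw [hv₁, ← commutatorElement_inv, Subgroup.inv_mem_iff, Subgroup.inv_mem_iff]
    exact h.max.comm_not_mem le_rfl (hS₁ ▸ hxS) hv₀2.1 hv₀2.2
  obtain ⟨v₂, hv₂⟩ : ∃ v, v = ⁅v₁, x⁆ := ⟨_, rfl⟩
  have hv₂4 : v₂ ∈ F G 4 ∧ v₂ ≠ 1 := hv₂ ▸ ⟨drop_mem' x hv₁3.1, hx3 v₁ hv₁3.1 hv₁3.2⟩
  obtain ⟨χ₂, hχ₂, hχ₂0, hχ₂v⟩ := exists_char hG (le_top : F G 2 ≤ ⊤) h32 (F_step_le_normalizer 2 3)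
    (by rw [c2, c3, ← pow_succ]) hv₀2.1 hv₀2.2
  obtain ⟨χ₃, hχ₃, hχ₃0, hχ₃v⟩ := exists_char hG (le_top : F G 3 ≤ ⊤) h43 (F_step_le_normalizer 3 4)
    (by rw [c3, c4, sq]) hv₁3.1 hv₁3.2
  obtain ⟨χ₄, hχ₄, hχ₄0, hχ₄v⟩ := exists_char hG (le_top : F G 4 ≤ ⊤) (bot_le : (⊥ : Subgroup G) ≤ F G 4)
    (fun g _ => Subgroup.mem_normalizer_iff.2 fun y => by simp [Subgroup.mem_bot])
    (by rw [c4, Subgroup.card_bot, one_mul]) hv₂4.1 (by rw [Subgroup.mem_bot]; exact hv₂4.2)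
  have inv2 : ∀ a, ∀ y ∈ F G 2, a * y * a⁻¹ ∈ F G 2 ∧ χ₂ (a * y * a⁻¹) = χ₂ y := fun a y hy => by
    refine ⟨(F_normal _).conj_mem y hy a, ?_⟩
    rw [show a * y * a⁻¹ = ⁅a, y⁆ * y by rw [commutatorElement_def]; group,
      hχ₂ _ (h32 (drop_mem a hy)) y hy, (hχ₂0 _ (h32 (drop_mem a hy))).2 (drop_mem a hy), zero_add]
  have inv3 : ∀ a, ∀ y ∈ F G 3, a * y * a⁻¹ ∈ F G 3 ∧ χ₃ (a * y * a⁻¹) = χ₃ y := fun a y hy => by
    refine ⟨(F_normal _).conj_mem y hy a, ?_⟩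
    rw [show a * y * a⁻¹ = ⁅a, y⁆ * y by rw [commutatorElement_def]; group,
      hχ₃ _ (h43 (drop_mem a hy)) y hy, (hχ₃0 _ (h43 (drop_mem a hy))).2 (drop_mem a hy), zero_add]
  have inv4 : ∀ a, ∀ y ∈ F G 4, a * y * a⁻¹ ∈ F G 4 ∧ χ₄ (a * y * a⁻¹) = χ₄ y := fun a y hy => by
    rw [h.central hy a, mul_inv_cancel_right]; exact ⟨hy, rfl⟩
  have hm2 : ∀ a b : G, ⁅a, b⁆ ∈ F G 2 := fun a b =>
    F_commutator (show a ∈ F G 1 from Subgroup.mem_top a) (show b ∈ F G 1 from Subgroup.mem_top b)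
  -- `S₁` centralises `F 3`
  have hS₁3 : ∀ g ∈ S₁, ∀ w ∈ F G 3, ⁅g, w⁆ = 1 := by
    intro g hg
    have h1 : g * ⁅x, a₂⁆ * g⁻¹ = ⁅x, a₂⁆ := by
      obtain ⟨d, hd⟩ : ∃ d, d = ⁅g, x⁆ := ⟨_, rfl⟩
      obtain ⟨q, hq⟩ : ∃ q, q = ⁅g, a₂⁆ := ⟨_, rfl⟩
      have hq4 : q ∈ F G 4 := by
        rw [hq]
        exact mem_twoStep.1 (hS₁ ▸ hg) a₂ ha₂
      have hd2 : d ∈ F G 2 := hd ▸ hm2 g x
      have e1 : g * ⁅x, a₂⁆ * g⁻¹ = ⁅d * x, q * a₂⁆ := by
        rw [hd, hq]; simp only [commutatorElement_def]; group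
      have e2 : ∀ u, ⁅u, q⁆ = 1 := fun u => commutatorElement_eq_one_iff_mul_comm.2 (h.central hq4 u)
      have e3 : ∀ u, u ∈ F G 2 → d * u * d⁻¹ = u := fun u hu => by
        rw [h.F2_comm d hd2 u hu, mul_inv_cancel_right]
      have e4 : ∀ u, q * u * q⁻¹ = u := fun u => by rw [← h.central hq4 u, mul_inv_cancel_right]
      rw [e1, commutator_conj_right, e2, one_mul, e4, commutator_conj_left, e3 _ (hm2 x a₂),
        commutatorElement_eq_one_iff_mul_comm.2 (h.F2_comm d hd2 a₂ ha₂), mul_one]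
    have hv := h.max.comm_not_mem le_rfl (hS₁ ▸ hxS) ha₂ ha₂'
    have hgen := h.max.F_gen (k := 3) (by norm_num) hv.1 hv.2
    have hle : F G 3 ≤ Subgroup.centralizer ({g} : Set G) := hgen.le.trans (sup_le
      (Subgroup.zpowers_le.2 (Subgroup.mem_centralizer_singleton_iff.2 (mul_inv_eq_iff_eq_mul.1 h1).symm))
      fun w hw => Subgroup.mem_centralizer_singleton_iff.2 (h.central hw g).symm)
    exact fun w hw => commutatorElement_eq_one_iff_mul_comm.2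
      (Subgroup.mem_centralizer_singleton_iff.1 (hle hw)).symm
  have hSB : ∀ u ∈ S₁, ∀ v ∈ S₁, χ₂ ⁅u, v⁆ = 0 := by
    have h1 : ∀ u ∈ S₁, χ₂ ⁅u, s⁆ = 0 := fun u hu => by
      rw [lin (Ψ := fun u => χ₂ ⁅u, s⁆) hB hB0 hs hBs
        (fun a _ b _ => char_comm_left hχ₂ (hm2 a s) (hm2 b s) (inv2 a))
        (fun w hw _ => (hχ₂0 _ (hm2 w s)).2 (drop_mem' s hw)) u hu, commutatorElement_self, char_one hχ₂, mul_zero]
    intro u hu v hv
    rw [lin (Ψ := fun v => χ₂ ⁅u, v⁆) hB hB0 hs hBs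
      (fun a _ b _ => char_comm_right hχ₂ (hm2 u a) (hm2 u b) (inv2 a))
      (fun w hw _ => (hχ₂0 _ (hm2 u w)).2 (drop_mem u hw)) v hv, h1 u hu, mul_zero]
  refine ⟨s, A, B, χ₂, χ₃, χ₄, χ₄ ⁅s, v₀⁆, hA', hS₁ ▸ hA0', hAx, hS₁ ▸ hB, hS₁ ▸ hB0, hS₁ ▸ hs, hBs,
    hχ₂0, hχ₃0, fun u hu => (hχ₄0 u hu).trans Subgroup.mem_bot, hχ₄, ?_, ?_, ?_, ?_, ?_⟩
  · rw [← hS₁]
    intro u hu y
    rw [lin (Ψ := fun y => χ₂ ⁅u, y⁆) hA hA0 (Subgroup.mem_top x) hAx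
      (fun a _ b _ => char_comm_right hχ₂ (hm2 u a) (hm2 u b) (inv2 a))
      (fun w hw _ => hSB u hu w hw) y (Subgroup.mem_top y),
      lin (Ψ := fun u => χ₂ ⁅u, x⁆) hB hB0 hs hBs
        (fun a _ b _ => char_comm_left hχ₂ (hm2 a x) (hm2 b x) (inv2 a))
        (fun w hw _ => (hχ₂0 _ (hm2 w x)).2 (drop_mem' x hw)) u hu, ← hv₀, hχ₂v, mul_one, mul_comm]
  · intro u hu y
    rw [lin (Ψ := fun y => χ₃ ⁅u, y⁆) hA hA0 (Subgroup.mem_top x) hAx
      (fun a _ b _ => char_comm_right hχ₃ (drop_mem' a hu) (drop_mem' b hu) (inv3 a))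
      (fun w hw _ => (hχ₃0 _ (drop_mem' w hu)).2 (by
        rw [← commutatorElement_inv]; exact inv_mem (mem_twoStep.1 (hS₁ ▸ hw) u hu))) y (Subgroup.mem_top y),
      lin (Ψ := fun u => χ₃ ⁅u, x⁆) hχ₂ hχ₂0 hv₀2.1 hχ₂v
        (fun a ha b hb => char_comm_left hχ₃ (drop_mem' x ha) (drop_mem' x hb) (inv3 a))
        (fun w hw hw' => (hχ₃0 _ (drop_mem' x hw')).2 (drop_mem' x hw)) u hu, ← hv₁, hχ₃v, mul_one, mul_comm]
  · intro u hu y
    rw [lin (Ψ := fun y => χ₄ ⁅u, y⁆) hA hA0 (Subgroup.mem_top x) hAx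
      (fun a _ b _ => char_comm_right hχ₄ (drop_mem' a hu) (drop_mem' b hu) (inv4 a))
      (fun w hw _ => by
        rw [← commutatorElement_inv, hS₁3 w hw u hu, inv_one]; exact char_one hχ₄) y (Subgroup.mem_top y),
      lin (Ψ := fun u => χ₄ ⁅u, x⁆) hχ₃ hχ₃0 hv₁3.1 hχ₃v
        (fun a ha b hb => char_comm_left hχ₄ (drop_mem' x ha) (drop_mem' x hb) (inv4 a))
        (fun w hw _ => by
          rw [commutatorElement_eq_one_iff_mul_comm.2 (h.central hw x).symm]; exact char_one hχ₄) u hu,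
      ← hv₂, hχ₄v, mul_one, mul_comm]
  · rw [← hS₁]
    intro u hu w hw
    have hm4 : ∀ g ∈ S₁, ∀ w ∈ F G 2, ⁅g, w⁆ ∈ F G 4 := fun g hg w hw => mem_twoStep.1 (hS₁ ▸ hg) w hw
    rw [lin (Ψ := fun w => χ₄ ⁅u, w⁆) hχ₂ hχ₂0 hv₀2.1 hχ₂v
      (fun a ha b hb => char_comm_right hχ₄ (hm4 u hu a ha) (hm4 u hu b hb) (inv4 a))
      (fun v hv _ => by rw [hS₁3 u hu v hv]; exact char_one hχ₄) w hw,
      lin (Ψ := fun u => χ₄ ⁅u, v₀⁆) hB hB0 hs hBs
        (fun a ha b hb => char_comm_left hχ₄ (hm4 a ha _ hv₀2.1) (hm4 b hb _ hv₀2.1) (inv4 a))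
        (fun v hv _ => by
          rw [commutatorElement_eq_one_iff_mul_comm.2 (h.F2_comm v hv v₀ hv₀2.1)]; exact char_one hχ₄) u hu]
    ring
  · intro h0
    have h1 : ⁅s, v₀⁆ = 1 := Subgroup.mem_bot.1 ((hχ₄0 _ (mem_twoStep.1 (hS₁ ▸ hs) v₀ hv₀2.1)).1 h0)
    refine h.nonab S₁ hS₁c ?_
    have hs0 : ∀ w ∈ F G 2, s * w = w * s := by
      have hgen := h.max.F_gen le_rfl hv₀2.1 hv₀2.2
      have hle : F G 2 ≤ Subgroup.centralizer ({s} : Set G) := hgen.le.trans (sup_le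
        (Subgroup.zpowers_le.2 (Subgroup.mem_centralizer_singleton_iff.2
          (commutatorElement_eq_one_iff_mul_comm.1 h1).symm))
        fun w hw => Subgroup.mem_centralizer_singleton_iff.2
          (commutatorElement_eq_one_iff_mul_comm.1 (hS₁3 s hs w hw)).symm)
      exact fun w hw => (Subgroup.mem_centralizer_singleton_iff.1 (hle hw)).symm
    have hd := dec hB hB0 hs hBs
    intro a ha b hb
    have h2 : ∀ c ∈ S₁, Commute c s := fun c hc => by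
      have := (show Commute s _ from hs0 _ (hd c hc)).symm.mul_left ((Commute.refl s).pow_left (B c).val)
      rwa [inv_mul_cancel_right] at this
    have h3 : ∀ c ∈ S₁, ∀ w ∈ F G 2, Commute c w := fun c hc w hw => by
      have := (show Commute _ w from h.F2_comm _ (hd c hc) w hw).mul_left
        ((show Commute s w from hs0 w hw).pow_left (B c).val)
      rwa [inv_mul_cancel_right] at this
    have h4 := (h3 a ha _ (hd b hb)).mul_right ((h2 a ha).pow_right (B b).val)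
    rwa [inv_mul_cancel_right] at h4

theorem map_F (γ : MulAut G) (k : ℕ) {y : G} (hy : y ∈ F G k) : γ y ∈ F G k :=
  (F_map γ.toMonoidHom γ.surjective k).le ⟨y, hy, rfl⟩

theorem map_twoStep (γ : MulAut G) {k : ℕ} {y : G} (hy : y ∈ twoStep G k) : γ y ∈ twoStep G k := by
  rw [mem_twoStep] at hy ⊢
  intro a ha
  obtain ⟨b, rfl⟩ := γ.surjective a
  have hb : b ∈ F G k := by simpa using map_F γ⁻¹ k ha
  rw [← map_commutatorElement]
  exact map_F γ _ (hy b hb)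

/-- The equations for an automorphism. -/
theorem Coords.aut {x s₁ : G} {A B χ₂ χ₃ χ₄ : G → ZMod p} {j : ZMod p} (hC : Coords G p x s₁ A B χ₂ χ₃ χ₄ j)
    (γ : MulAut G) : B (γ s₁) = A (γ x) ^ 2 ∧ A (γ x) ≠ 0 ∧
      ∀ z ∈ F G 4, χ₄ (γ z) = A (γ x) ^ 5 * χ₄ z := by
  obtain ⟨v₀, hv₀⟩ : ∃ v, v = ⁅s₁, x⁆ := ⟨_, rfl⟩
  obtain ⟨v₁, hv₁⟩ : ∃ v, v = ⁅v₀, x⁆ := ⟨_, rfl⟩
  obtain ⟨v₂, hv₂⟩ : ∃ v, v = ⁅v₁, x⁆ := ⟨_, rfl⟩
  have hv₀m : v₀ ∈ F G 2 := hv₀ ▸ F_commutator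
    (show s₁ ∈ F G 1 from Subgroup.mem_top _) (show x ∈ F G 1 from Subgroup.mem_top x)
  have hv₁m : v₁ ∈ F G 3 := hv₁ ▸ drop_mem' x hv₀m
  have hv₂m : v₂ ∈ F G 4 := hv₂ ▸ drop_mem' x hv₁m
  have e0 : χ₂ v₀ = 1 := by rw [hv₀, hC.P2 _ hC.s₁_mem, hC.B_s₁, hC.A_x, one_mul]
  have e2 : χ₄ v₂ = 1 := by rw [hv₂, hC.P4 _ hv₁m, hv₁, hC.P3 _ hv₀m, e0, hC.A_x, one_mul, one_mul]
  have f0 : χ₂ (γ v₀) = B (γ s₁) * A (γ x) := by
    rw [hv₀, map_commutatorElement, hC.P2 _ (map_twoStep γ hC.s₁_mem)]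
  have f2 : χ₄ (γ v₂) = B (γ s₁) * A (γ x) ^ 3 := by
    rw [hv₂, map_commutatorElement, hC.P4 _ (map_F γ 3 hv₁m), hv₁, map_commutatorElement,
      hC.P3 _ (map_F γ 2 hv₀m), f0]
    ring
  have hchar : ∀ n : ℕ, χ₄ (v₂ ^ n) = n := fun n => by
    rw [char_pow hC.c4_add hv₂m, e2, mul_one]
  have hτ : ∀ z ∈ F G 4, χ₄ (γ z) = B (γ s₁) * A (γ x) ^ 3 * χ₄ z := by
    intro z hz
    have h1 : z = v₂ ^ (χ₄ z).val := mul_inv_eq_one.1 ((hC.c4_zero _ (mul_mem hz (inv_mem (pow_mem hv₂m _)))).1 (by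
      rw [char_sub hC.c4_add hz (pow_mem hv₂m _), hchar, ZMod.natCast_zmod_val, sub_self]))
    rw [h1, _root_.map_pow, char_pow hC.c4_add (map_F γ 4 hv₂m), f2, hchar]
    ring
  have hb0 : B (γ s₁) ≠ 0 := by
    intro h0
    have h1 := map_F γ⁻¹ 2 ((hC.B_zero _ (map_twoStep γ hC.s₁_mem)).1 h0)
    rw [MulAut.inv_apply_self] at h1
    have := (hC.B_zero _ hC.s₁_mem).2 h1
    rw [hC.B_s₁] at this
    exact one_ne_zero this
  have ha0 : A (γ x) ≠ 0 := by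
    intro h0
    have h1 := map_twoStep γ⁻¹ ((hC.A_zero _).1 h0)
    rw [MulAut.inv_apply_self] at h1
    have := (hC.A_zero _).2 h1
    rw [hC.A_x] at this
    exact one_ne_zero this
  have h1 := hτ _ (mem_twoStep.1 hC.s₁_mem v₀ hv₀m)
  rw [map_commutatorElement, hC.Q4 _ (map_twoStep γ hC.s₁_mem) _ (map_F γ 2 hv₀m), f0,
    hC.Q4 _ hC.s₁_mem _ hv₀m, hC.B_s₁, e0] at h1
  have hb : B (γ s₁) = A (γ x) ^ 2 :=
    mul_left_cancel₀ (mul_ne_zero (mul_ne_zero hb0 ha0) hC.j_ne) (by linear_combination h1)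
  refine ⟨hb, ha0, fun z hz => ?_⟩
  rw [hτ z hz, hb]
  ring

/-- An automorphism which is `a` on a point of `E` outside the centre is `a⁵` on the centre. -/
theorem PearlIn.scalar (h : PearlIn G p E) {x : G} (hx : x ∈ E) (hx4 : x ∉ F G 4) {z : G} (hz : z ∈ F G 4)
    (hz1 : z ≠ 1) (γ : MulAut G) {a b : ℕ} (ha : γ x = x ^ a) (hb : γ z = z ^ b) :
    (a : ZMod p) ^ 5 = b := by
  obtain ⟨s₁, A, B, χ₂, χ₃, χ₄, j, hC⟩ := h.exists_coords hx hx4
  have hA : A (γ x) = a := by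
    rw [ha, char_pow (A := (⊤ : Subgroup G)) (fun u _ v _ => hC.A_add u v) (Subgroup.mem_top x), hC.A_x, mul_one]
  have h1 := (hC.aut γ).2.2 z hz
  rw [hA, hb, char_pow hC.c4_add hz] at h1
  exact (mul_right_cancel₀ (fun h0 => hz1 ((hC.c4_zero z hz).1 h0)) h1).symm

set_option maxHeartbeats 800000 in
/-- For `p = 3` norms are trivial and an element outside the Frattini subgroup is fixed modulo it. -/
theorem PearlIn.three {G : Type*} [Group G] [Finite G] {E : Subgroup G} (h : PearlIn G 3 E) :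
    NormTrivial 3 G ∧ ∃ l : G, l ∉ frattini G ∧ ∀ γ : MulAut G, l⁻¹ * γ l ∈ frattini G := by
  obtain ⟨x, hx, hx4⟩ : ∃ x ∈ E, x ∉ F G 4 := by
    by_contra hh
    push Not at hh
    have := Subgroup.card_le_of_le (show E ≤ F G 4 from hh)
    rw [h.cardE, h.card_F.2.2] at this
    norm_num at this
  obtain ⟨s₁, A, B, χ₂, χ₃, χ₄, j, hC⟩ := h.exists_coords hx hx4
  have hG := h.max.isPGroup
  have hF2Φ : F G 2 ≤ frattini G := Solv.commutator_le_frattini_pgroup hG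
  have h32 : F G 3 ≤ F G 2 := F_antitone (by norm_num)
  have h43 : F G 4 ≤ F G 3 := F_antitone (by norm_num)
  have hx2 := h.not_mem_F2 hx hx4
  refine ⟨normTrivial_three fun M hMn hMi => ?_, s₁, fun hs => ?_, fun γ => ?_⟩
  · haveI := hMn
    have hMc : Nat.card M = 3 ^ 4 := by
      have h1 := M.card_mul_index
      rw [hMi, h.max.card, show 5 = 4 + 1 from rfl, pow_succ 3 4] at h1
      exact Nat.eq_of_mul_eq_mul_right (by norm_num) h1
    have hcM : F G 2 ≤ M := by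
      obtain ⟨u, -, hu⟩ := SetLike.exists_of_lt (lt_top_iff_ne_top.2 fun he => by
        rw [he, Subgroup.index_top] at hMi; norm_num at hMi : M < ⊤)
      obtain ⟨χ, hχ, hχ0, -⟩ := exists_char (hG.to_subgroup ⊤) le_rfl (le_top : M ≤ ⊤)
        (by rw [Subgroup.normalizer_eq_top]) (by rw [Subgroup.card_top, h.max.card, hMc, ← pow_succ])
        (Subgroup.mem_top u) hu
      show (⊤ : Subgroup G).lowerCentralSeries (2 - 1) ≤ M
      rw [Subgroup.lowerCentralSeries_one]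
      refine Subgroup.commutator_le.2 fun a _ b _ => (hχ0 _ (Subgroup.mem_top _)).1 ?_
      rw [commutatorElement_def, hχ _ (Subgroup.mem_top _) _ (Subgroup.mem_top _),
        char_conj hχ (Subgroup.mem_top a) (Subgroup.mem_top b), char_inv hχ (Subgroup.mem_top b), add_neg_cancel]
    by_cases hMS : ∀ y ∈ M, y ∈ twoStep G 2
    · right
      intro y hy
      have hMeq : M = twoStep G 2 := by
        refine Subgroup.eq_of_le_of_card_ge hMS ?_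
        have h2 := p_mul_card_le_of_lt hG (lt_top_iff_ne_top.2
          (h.max.twoStep_ne_top (by norm_num) (by norm_num)) : twoStep G 2 < ⊤)
        rw [Subgroup.card_top, h.max.card] at h2
        rw [hMc]
        omega
      have hyA : A y ≠ 0 := fun h0 => hy (hMeq.ge ((hC.A_zero y).1 h0))
      have hw : y ^ 3 ∈ twoStep G 2 := (hC.A_zero _).1 (by
        rw [char_pow (A := (⊤ : Subgroup G)) (fun u _ v _ => hC.A_add u v) (Subgroup.mem_top y),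
          ZMod.natCast_self, zero_mul])
      have hcom : ⁅y ^ 3, y⁆ = 1 := commutatorElement_eq_one_iff_mul_comm.2 (pow_mul_comm' y 3)
      have hw2 : y ^ 3 ∈ F G 2 := by
        refine (hC.B_zero _ hw).1 ((mul_eq_zero.1 ?_).resolve_right hyA)
        rw [← hC.P2 _ hw, hcom]
        exact (hC.c2_zero 1 (one_mem _)).2 (one_mem _)
      have hw3 : y ^ 3 ∈ F G 3 := by
        refine (hC.c2_zero _ hw2).1 ((mul_eq_zero.1 ?_).resolve_right hyA)
        rw [← hC.P3 _ hw2, hcom]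
        exact (hC.c3_zero 1 (one_mem _)).2 (one_mem _)
      have hw4 : y ^ 3 ∈ F G 4 := by
        refine (hC.c3_zero _ hw3).1 ((mul_eq_zero.1 ?_).resolve_right hyA)
        rw [← hC.P4 _ hw3, hcom]
        exact (hC.c4_zero 1 (one_mem _)).2 rfl
      obtain ⟨v, hvd⟩ : ∃ v, v = ⁅s₁, x⁆ := ⟨_, rfl⟩
      have hv2 : v ∈ F G 2 := hvd ▸ F_commutator
        (show s₁ ∈ F G 1 from Subgroup.mem_top _) (show x ∈ F G 1 from Subgroup.mem_top x)
      have hv3 : v ∉ F G 3 := fun h3 => one_ne_zero (α := ZMod 3) (by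
        have := (hC.c2_zero v hv2).2 h3
        rwa [hvd, hC.P2 _ hC.s₁_mem, hC.B_s₁, hC.A_x, one_mul] at this)
      obtain ⟨d, hdd⟩ : ∃ d, d = ⁅s₁, v⁆ := ⟨_, rfl⟩
      have hd : d ∈ F G 4 := hdd ▸ mem_twoStep.1 hC.s₁_mem v hv2
      have hd1 : d ≠ 1 := fun h1 => hC.j_ne (by
        have := (hC.c4_zero d hd).2 h1
        rw [hdd, hC.Q4 _ hC.s₁_mem _ hv2, hC.B_s₁, hvd, hC.P2 _ hC.s₁_mem, hC.B_s₁, hC.A_x, one_mul, one_mul,
          one_mul] at this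
        exact this)
      have hgen := h.max.F_gen (k := 4) (by norm_num) hd fun h5 => hd1 (h.five h5)
      refine (show F G 4 ≤ ⁅M, M⁆ from hgen.le.trans (sup_le (Subgroup.zpowers_le.2 ?_) fun w hw => ?_)) hw4
      · rw [hdd]
        exact Subgroup.commutator_mem_commutator (hMeq.ge hC.s₁_mem) (hcM hv2)
      · rw [h.five hw]; exact one_mem _
    · left
      push Not at hMS
      obtain ⟨y, hyM, hy2⟩ := hMS
      intro u m hm
      obtain ⟨a₂, ha₂, ha₂'⟩ := SetLike.exists_of_lt (h.max.F_lt (k := 2) le_rfl (by norm_num))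
      have h1 := h.max.comm_not_mem le_rfl hy2 ha₂ ha₂'
      have h1M : ⁅y, a₂⁆ ∈ ⁅M, M⁆ := Subgroup.commutator_mem_commutator hyM (hcM ha₂)
      have hy0 : A y ≠ 0 := fun h0 => hy2 ((hC.A_zero y).1 h0)
      have h2 : ⁅⁅y, a₂⁆, y⁆ ≠ 1 := fun h0 => by
        have h3 := hC.P4 _ h1.1 y
        rw [h0, (hC.c4_zero 1 (one_mem _)).2 rfl] at h3
        exact h1.2 ((hC.c3_zero _ h1.1).1 ((mul_eq_zero.1 h3.symm).resolve_right hy0))
      have h2M : ⁅⁅y, a₂⁆, y⁆ ∈ ⁅M, M⁆ := Subgroup.commutator_mem_commutator (hcM (h32 h1.1)) hyM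
      have hg4 := h.max.F_gen (k := 4) (by norm_num) (drop_mem' y h1.1) fun h5 => h2 (h.five h5)
      have h4M : F G 4 ≤ ⁅M, M⁆ := hg4.le.trans (sup_le (Subgroup.zpowers_le.2 h2M) fun w hw => by
        rw [h.five hw]; exact one_mem _)
      have hg3 := h.max.F_gen (k := 3) (by norm_num) h1.1 h1.2
      have h3M : F G 3 ≤ ⁅M, M⁆ := hg3.le.trans (sup_le (Subgroup.zpowers_le.2 h1M) h4M)
      exact h3M (drop_mem u (F_commutator (show u ∈ F G 1 from Subgroup.mem_top u)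
        (show m ∈ F G 1 from Subgroup.mem_top m)))
  · -- `s₁` is not in `frattini G`
    have htop := h.max.gen_top (x := x) (y := s₁) hx2 fun hh => by
      have hle : Subgroup.zpowers x ⊔ F G 2 ≤ Subgroup.zpowers x ⊔ F G 2 := le_rfl
      have hB1 := hC.B_s₁
      have key : ∀ g ∈ Subgroup.zpowers x ⊔ F G 2, ∃ i : ℕ, g * (x ^ i)⁻¹ ∈ F G 2 := by
        intro g hg
        obtain ⟨a, ha, b, hb, rfl⟩ := (haveI := F_normal (G := G) 2; Subgroup.mem_sup_of_normal_right.1 hg)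
        obtain ⟨i, rfl⟩ := ((isOfFinOrder_of_finite x).mem_powers_iff_mem_zpowers).2 ha
        exact ⟨i, (F_normal _).conj_mem b hb _⟩
      obtain ⟨i, hi⟩ := key s₁ hh
      have h1 := (hC.A_zero _).2 (F_two_le_twoStep 2 hi)
      rw [char_sub (A := (⊤ : Subgroup G)) (fun u _ v _ => hC.A_add u v) (Subgroup.mem_top _) (Subgroup.mem_top _),
        (hC.A_zero _).2 hC.s₁_mem, char_pow (A := (⊤ : Subgroup G)) (fun u _ v _ => hC.A_add u v)
          (Subgroup.mem_top x), hC.A_x, mul_one, zero_sub, neg_eq_zero] at h1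
      have hxi : x ^ i = 1 := orderOf_dvd_iff_pow_eq_one.1
        ((orderOf_dvd_of_pow_eq_one (h.exp x hx)).trans ((ZMod.natCast_eq_zero_iff _ _).1 h1))
      rw [hxi, inv_one, mul_one] at hi
      have := (hC.B_zero _ hC.s₁_mem).2 hi
      rw [hB1] at this
      exact one_ne_zero this
    have hle : Subgroup.zpowers x ⊔ frattini G = ⊤ := by
      rw [eq_top_iff, ← htop]
      exact sup_le (Subgroup.zpowers_le.2 (Subgroup.mem_sup_right hs)) (sup_le_sup_left hF2Φ _)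
    have ht : Subgroup.zpowers x = ⊤ := frattini_nongenerating hle
    have := congrArg (fun A : Subgroup G => Nat.card A) ht
    simp only [Nat.card_zpowers, Subgroup.card_top, h.max.card] at this
    have hle' := Nat.le_of_dvd (by norm_num) (orderOf_dvd_of_pow_eq_one (h.exp x hx))
    omega
  · obtain ⟨hb, ha, -⟩ := hC.aut γ
    refine hF2Φ ((hC.B_zero _ (mul_mem (inv_mem hC.s₁_mem) (map_twoStep γ hC.s₁_mem))).1 ?_)
    rw [hC.B_add _ (inv_mem hC.s₁_mem) _ (map_twoStep γ hC.s₁_mem), char_inv hC.B_add hC.s₁_mem, hC.B_s₁, hb,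
      sq, zmod_three_sq _ ha, neg_add_cancel]

end Cfsg.Agent.Local.FS.Fifth
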