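import Cfsg.Agent.Lib.Local.FS.Yoshida
import Cfsg.Agent.Lib.Local.FS.TowerTools
import Cfsg.Agent.Lib.Local.FS.Normal

/-!
An element outside the Frattini subgroup which all automorphisms of `S` fix modulo it shows, when
norms are trivial, that the focal subgroup is proper; a criterion for trivial norms at the prime 3.
-/

set_option autoImplicit false

open scoped commutatorElement

namespace Cfsg.Agent.Local.FS.Fifth

open Cfsg Cfsg.FusionSystem Cfsg.Agent.Fusion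

variable {Ω : Type*} [Group Ω] {S : Subgroup Ω} [Finite S] {F : FusionSystem S} {p : ℕ} [hp : Fact p.Prime]

/-- If norms are trivial and an element outside `Φ(S)` is fixed modulo `Φ(S)` by `Aut_F(S)`, the focal
subgroup is proper. -/
theorem focal_ne (hS : IsPGroup p S) (hF : F.IsSaturated p) (hW : NormTrivial p S) {l : Ω} (hl : l ∈ S)
    (hlΦ : l ∉ (frattini ↥S).map S.subtype)
    (hfix : ∀ γ ∈ F.autGroup S, l⁻¹ * av γ l ∈ (frattini ↥S).map S.subtype) :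
    F.focalSubgroup ≠ S := by
  classical
  obtain ⟨M, hM, hlM⟩ : ∃ M : Subgroup S, IsCoatom M ∧ (⟨l, hl⟩ : S) ∉ M := by
    by_contra h
    push Not at h
    refine hlΦ ⟨⟨l, hl⟩, ?_, rfl⟩
    rw [SetLike.mem_coe, frattini, Order.radical, Subgroup.mem_iInf]
    intro M
    rw [Subgroup.mem_iInf]
    exact fun hM => h M hM
  obtain ⟨B, hB⟩ : ∃ B, B = M.map S.subtype := ⟨_, rfl⟩
  have hBS : B ≤ S := hB ▸ Subgroup.map_subtype_le M
  have hΦB : (frattini ↥S).map S.subtype ≤ B := hB ▸ Subgroup.map_mono (frattini_le_coatom hM)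
  have hlB : l ∉ B := by
    rw [hB]; rintro ⟨x, hx, hxl⟩
    exact hlM ((Subtype.ext hxl : x = (⟨l, hl⟩ : S)) ▸ hx)
  haveI hMn := Solv.coatom_normal hS hM
  have hBc : Nat.card S = Nat.card B * p := by
    rw [hB, Subgroup.card_map_of_injective S.subtype_injective, ← Solv.coatom_index hS hM, M.card_mul_index]
  have hBn : S ≤ Subgroup.normalizer (B : Set Ω) := fun s hs => mem_normalizer_of_conj_mem hBS fun y hy => by
    rw [hB] at hy ⊢
    obtain ⟨x, hx, rfl⟩ := hy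
    exact ⟨⟨s, hs⟩ * x * ⟨s, hs⟩⁻¹, hMn.conj_mem x hx _, rfl⟩
  obtain ⟨χ, hχ, hχ0, hχl⟩ := Tower.exists_char hS le_rfl hBS hBn hBc hl hlB
  -- average over the automorphism group
  haveI := mulAut_finite_of_le (le_refl S)
  obtain ⟨I, hI⟩ : ∃ I, I = (Inn S).subgroupOf (F.autGroup S) := ⟨_, rfl⟩
  haveI hIn : I.Normal := hI ▸ inferInstance
  have hIndex : ¬ p ∣ I.index := by
    have hinn : autInducedBy S S = Inn S := by ext α; rw [mem_autInducedBy, mem_Inn]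
    obtain ⟨-, hsyl⟩ := fa_iff.1 (fc_fa_of_fn hS hF (fn_self (F := F))).2
    rw [hinn] at hsyl
    rw [hI]
    exact hsyl.not_dvd
  haveI : Fintype (↥(F.autGroup S) ⧸ I) := Fintype.ofFinite _
  have key : ∀ (α : F.autGroup S) (x : Ω), x ∈ S →
      χ (av (α : MulAut S) x) = χ (av ((α : ↥(F.autGroup S) ⧸ I).out : MulAut S) x) := by
    intro α x hx
    obtain ⟨i, hi⟩ := QuotientGroup.mk_out_eq_mul I α
    rw [hi, Subgroup.coe_mul, av_mul _ _ hx]
    have hiI : ((i : F.autGroup S) : MulAut S) ∈ Inn S := by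
      have := i.2
      exact Subgroup.mem_subgroupOf.1 (hI.le this)
    obtain ⟨g, hg, hgx⟩ := mem_Inn.1 hiI
    rw [hgx x hx, (map_of_mem_autGroup le_rfl α.2).map_mul (S.mul_mem hg hx) (S.inv_mem hg),
      (map_of_mem_autGroup le_rfl α.2).map_mul hg hx, (map_of_mem_autGroup le_rfl α.2).map_inv hg,
      Tower.char_conj hχ (av_mem _ hg) (av_mem _ hx)]
  obtain ⟨ψ, hψ⟩ : ∃ ψ : Ω → ZMod p,
      ∀ x, ψ x = ∑ q : ↥(F.autGroup S) ⧸ I, χ (av (q.out : MulAut S) x) := ⟨_, fun _ => rfl⟩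
  have hψadd : ∀ x ∈ S, ∀ y ∈ S, ψ (x * y) = ψ x + ψ y := by
    intro x hx y hy
    rw [hψ, hψ, hψ, ← Finset.sum_add_distrib]
    refine Finset.sum_congr rfl fun q _ => ?_
    rw [(map_of_mem_autGroup le_rfl q.out.2).map_mul hx hy, hχ _ (av_mem _ hx) _ (av_mem _ hy)]
  have hψinv : ∀ β ∈ F.autGroup S, ∀ x ∈ S, ψ (av β x) = ψ x := by
    intro β hβ x hx
    rw [hψ, hψ]
    refine Fintype.sum_equiv (Equiv.mulRight ((⟨β, hβ⟩ : F.autGroup S) : ↥(F.autGroup S) ⧸ I)) _ _ fun q => ?_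
    have h1 := key (q.out * ⟨β, hβ⟩) x hx
    rw [Subgroup.coe_mul, av_mul _ _ hx, QuotientGroup.mk_mul, QuotientGroup.out_eq'] at h1
    exact h1
  have hψl : ψ l = (I.index : ZMod p) := by
    rw [hψ, Finset.sum_congr rfl fun q _ => ?_, Finset.sum_const, nsmul_one, Finset.card_univ,
      ← Nat.card_eq_fintype_card, ← Subgroup.index_eq_card]
    have h1 := hfix _ q.out.2
    have hyS := av_mem (q.out : MulAut S) hl
    have h2 := (hχ0 _ (S.mul_mem (S.inv_mem hl) hyS)).2 (hΦB h1)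
    rw [hχ _ (S.inv_mem hl) _ hyS, Tower.char_inv hχ hl, hχl] at h2
    linear_combination h2
  intro hfoc
  obtain ⟨K, hK⟩ : ∃ K : Subgroup Ω, ∀ x, x ∈ K ↔ x ∈ S ∧ ψ x = 0 :=
    ⟨{ carrier := {x | x ∈ S ∧ ψ x = 0}
       one_mem' := ⟨S.one_mem, Tower.char_one hψadd⟩
       mul_mem' := fun {a b} ha hb => ⟨S.mul_mem ha.1 hb.1, by rw [hψadd a ha.1 b hb.1, ha.2, hb.2, add_zero]⟩
       inv_mem' := fun {a} ha => ⟨S.inv_mem ha.1, by rw [Tower.char_inv hψadd ha.1, ha.2, neg_zero]⟩ },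
      fun _ => Iff.rfl⟩
  have hle : normFoc F S ≤ K := by
    refine normFoc_le_of fun P g hg hSP hgS x hx => ?_
    obtain ⟨α, hα, hαg⟩ := exists_aut (hg.restrict hSP) hgS
    have hxS := hg.le hx
    rw [hK, ← hαg x hxS]
    refine ⟨S.mul_mem (S.inv_mem hxS) (av_mem _ hxS), ?_⟩
    rw [hψadd _ (S.inv_mem hxS) _ (av_mem _ hxS), Tower.char_inv hψadd hxS, hψinv α hα x hxS, neg_add_cancel]
  have h0 := ((hK l).1 ((focal_le_normFoc_of_normTrivial hS hF hW).trans hle (hfoc.ge hl))).2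
  rw [hψl] at h0
  exact hIndex ((ZMod.natCast_eq_zero_iff _ _).1 h0)

omit hp in
/-- Two ways in which the norms to a subgroup of index 3 are trivial. -/
theorem normTrivial_three {G : Type*} [Group G]
    (h : ∀ M : Subgroup G, M.Normal → M.index = 3 →
      (∀ u : G, ∀ m ∈ M, ⁅u, ⁅u, m⁆⁆ ∈ ⁅M, M⁆) ∨ (∀ y : G, y ∉ M → y ^ 3 ∈ ⁅M, M⁆)) :
    NormTrivial 3 G := by
  intro M hM u μ hi m
  have hker : ∀ x : M, (x : G) ∈ ⁅M, M⁆ → μ x = 1 := by
    intro x hx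
    rw [← Subgroup.map_subtype_commutator] at hx
    obtain ⟨w, hw, hwx⟩ := hx
    rw [← Subtype.ext hwx]
    exact Abelianization.commutator_subset_ker μ hw
  have hcube : ∀ a : Multiplicative (ZMod 3), a * a * a = 1 := by decide
  simp only [Finset.prod_range_succ, Finset.prod_range_zero, one_mul, pow_zero, pow_one, inv_one, mul_one,
    Subtype.coe_eta]
  by_cases hu : u ∈ M
  · have h1 : ∀ (g : G) (hg : g ∈ M) (y : G) (hy : y ∈ M) (h2 : g * y * g⁻¹ ∈ M),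
        μ ⟨g * y * g⁻¹, h2⟩ = μ ⟨y, hy⟩ := by
      intro g hg y hy h2
      rw [show (⟨g * y * g⁻¹, h2⟩ : M) = ⟨g, hg⟩ * ⟨y, hy⟩ * ⟨g, hg⟩⁻¹ from Subtype.ext rfl, map_mul, map_mul,
        map_inv, mul_inv_cancel_comm]
    rw [h1 u hu m m.2, h1 _ (M.pow_mem hu 2) m m.2]
    exact hcube _
  rcases h M hM hi with h1 | h1
  · obtain ⟨c₁, hc₁⟩ : ∃ c₁ : M, (c₁ : G) = ⁅u, (m : G)⁆ :=
      ⟨⟨_, M.mul_mem (hM.conj_mem _ m.2 u) (M.inv_mem m.2)⟩, rfl⟩
    obtain ⟨c₂, hc₂⟩ : ∃ c₂ : M, (c₂ : G) = ⁅u, (c₁ : G)⁆ :=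
      ⟨⟨_, M.mul_mem (hM.conj_mem _ c₁.2 u) (M.inv_mem c₁.2)⟩, rfl⟩
    have e1 : ∀ hh, (⟨u * (m : G) * u⁻¹, hh⟩ : M) = c₁ * m := fun hh =>
      Subtype.ext (by rw [Subgroup.coe_mul, hc₁, commutatorElement_def]; group)
    have e2 : ∀ hh, (⟨u ^ 2 * (m : G) * (u ^ 2)⁻¹, hh⟩ : M) = c₂ * c₁ * (c₁ * m) := fun hh =>
      Subtype.ext (by
        simp only [Subgroup.coe_mul, hc₂, hc₁, commutatorElement_def, sq]; group)
    rw [e1, e2, map_mul, map_mul, map_mul, map_mul, hker c₂ (by rw [hc₂, hc₁]; exact h1 u m m.2), one_mul]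
    calc μ m * (μ c₁ * μ m) * (μ c₁ * (μ c₁ * μ m)) = (μ m * μ m * μ m) * (μ c₁ * μ c₁ * μ c₁) := by
          simp only [mul_assoc, mul_comm, mul_left_comm]
      _ = 1 := by rw [hcube, hcube, one_mul]
  · have hy : (m : G) * u ∉ M := fun hh => hu (by simpa using M.mul_mem (M.inv_mem m.2) hh)
    have hcle : ⁅M, M⁆ ≤ M := Subgroup.commutator_le.2 fun a ha b hb =>
      M.mul_mem (M.mul_mem (M.mul_mem ha hb) (M.inv_mem ha)) (M.inv_mem hb)
    have h3 := h1 _ hy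
    have h4 := h1 u hu
    have e : ∀ h₁ h₂, (⟨((m : G) * u) ^ 3, hcle h3⟩ : M) =
        m * ⟨u * (m : G) * u⁻¹, h₁⟩ * ⟨u ^ 2 * (m : G) * (u ^ 2)⁻¹, h₂⟩ * ⟨u ^ 3, hcle h4⟩ := fun h₁ h₂ =>
      Subtype.ext (by simp only [Subgroup.coe_mul, pow_succ, pow_zero, one_mul]; group)
    have h5 := hker _ (show ((⟨((m : G) * u) ^ 3, hcle h3⟩ : M) : G) ∈ ⁅M, M⁆ from h3)
    rw [e (hM.conj_mem _ m.2 u) (hM.conj_mem _ m.2 (u ^ 2)), map_mul, map_mul, map_mul,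
      hker (⟨u ^ 3, hcle h4⟩ : M) h4, mul_one] at h5
    exact h5

end Cfsg.Agent.Local.FS.Fifth
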